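import Cfsg.Agent.H544.Rg.Rho
import Cfsg.Agent.H454.Reg.Tools

/-!
# S3691, `Sp_6(q)`, `q` even: no exact factorization with a factor containing `G₂(q)` (helper544)

* `num` : the numerical conditions from `|K| e = q³ (q⁴ - 1)`, `e ∣ a`
* `red_false` : `Y` reducible on `V`
* `gen_false` : any action of `Y ∩ T` on a four-dimensional symplectic section
-/

set_option autoImplicit false
set_option linter.unusedSectionVars false

namespace Cfsg.Agent.H544.Rg

open Module Subgroup Cfsg Cfsg.Lie Cfsg.Agent.H436 Cfsg.Agent.H454.Reg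

universe u v w

/-- the numerical conditions -/
theorem num {N a e : ℕ} (ha : 3 ≤ a) (hN : N ≠ 0) (h : N * e = (2 ^ a) ^ 3 * ((2 ^ a) ^ 4 - 1)) (he : e ∣ a) :
    2 * a + 1 < N.factorization 2 ∧ N.factorization 2 < 4 * a := by
  have hodd : ¬ 2 ∣ (2 ^ a) ^ 4 - 1 := odd_sub (by omega) (by omega)
  have h0 : (2 ^ a) ^ 4 - 1 ≠ 0 := by
    intro h0
    rw [h0] at hodd
    exact hodd (dvd_zero 2)
  have he0 : e ≠ 0 := by
    rintro rfl
    rw [mul_zero] at h
    have : (2 ^ a) ^ 3 * ((2 ^ a) ^ 4 - 1) ≠ 0 := mul_ne_zero (by positivity) h0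
    exact this h.symm
  have h1 := congrArg (fun n => n.factorization 2) h
  beta_reduce at h1
  rw [Nat.factorization_mul hN he0, Nat.factorization_mul (by positivity) h0, Finsupp.add_apply, Finsupp.add_apply,
    Nat.factorization_eq_zero_of_not_dvd hodd, ← pow_mul, Nat.Prime.factorization_pow Nat.prime_two,
    Finsupp.single_eq_same, add_zero] at h1
  have h2 : 2 ^ e.factorization 2 ≤ a :=
    (Nat.le_of_dvd (Nat.pos_of_ne_zero he0) (Nat.ordProj_dvd e 2)).trans (Nat.le_of_dvd (by omega) he)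
  have h3 : e.factorization 2 < a - 1 := by
    by_contra hcon
    push Not at hcon
    have h4 : 2 ^ (a - 1) ≤ a := (Nat.pow_le_pow_right (by norm_num) hcon).trans h2
    have h5 : a < 2 ^ (a - 1) := by
      obtain ⟨b, rfl⟩ : ∃ b, a = b + 3 := ⟨a - 3, by omega⟩
      have h6 : b < 2 ^ b := Nat.lt_two_pow_self
      have h7 : 2 ^ (b + 3 - 1) = 4 * 2 ^ b := by
        rw [show b + 3 - 1 = b + 2 by omega, pow_add]
        ring
      omega
    omega
  constructor <;> omega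

variable {G : Type u} [Group G] [Finite G] {T X Y : Subgroup G}
  {F : Type} [Field F] [Finite F] {V : Type v} [AddCommGroup V] [Module F V] [Finite V]

/-- the general form -/
theorem gen_false (h : Fac T X Y) {a : ℕ} (hF : Nat.card F = 2 ^ a) (ha : 3 ≤ a) (hV : finrank F V = 6)
    {B : LinearMap.BilinForm F V} (halt : ∀ x, B x x = 0) (hnd : ∀ x, (∀ y, B x y = 0) → x = 0)
    {E0 : Subgroup (V ≃ₗ[F] V)} (hE0 : ∀ g, g ∈ E0 ↔ ∀ x y, B (g x) (g y) = B x y) {π : E0 →* T}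
    (hπ : Function.Injective π)
    {P : Subgroup E0} (hPX : ∀ p ∈ P, (π p : G) ∈ X)
    {F₁ : Type w} [Field F₁] [Fintype F₁] (hF₁ : Fintype.card F₁ = 2 ^ a) (e : P ≃* chevG2.group F₁)
    {L : Subgroup E0} (hLY : ∀ x ∈ L, (π x : G) ∈ Y)
    {r : ℕ} (hr : Prim 2 (4 * a) r) (hrK : r ∣ Nat.card L)
    (hK1 : 2 * a + 1 < (Nat.card L).factorization 2) (hK2 : (Nat.card L).factorization 2 < 4 * a)
    {F₂ : Type} [Field F₂] [Fintype F₂] (hF₂ : Fintype.card F₂ = 2 ^ a)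
    (ρ : L →* Matrix.symplecticGroup (Fin 2) F₂) (hρ : ¬ r ∣ Nat.card ρ.ker) : False := by
  have hfin : Finite (V ≃ₗ[F] V) := Finite.of_injective (fun e : V ≃ₗ[F] V => (e : V → V)) DFunLike.coe_injective
  let eP := P.equivMapOfInjective E0.subtype E0.subtype_injective
  let eL := L.equivMapOfInjective E0.subtype E0.subtype_injective
  have hcL : Nat.card (L.map E0.subtype) = Nat.card L := Subgroup.card_map_of_injective E0.subtype_injective
  have hiso : ∀ (S : Subgroup E0), ∀ g ∈ S.map E0.subtype, ∀ x y, B (g x) (g y) = B x y := by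
    rintro S _ ⟨g, -, rfl⟩
    exact (hE0 g).1 g.2
  have hker : Nat.card (ρ.comp eL.symm.toMonoidHom).ker = Nat.card ρ.ker := by
    have h1 : (ρ.comp eL.symm.toMonoidHom).ker = ρ.ker.comap eL.symm.toMonoidHom := rfl
    rw [h1]
    exact Nat.card_congr (eL.symm.toEquiv.subtypeEquiv fun x => Iff.rfl)
  obtain ⟨p, hp, hp1, g, hg, hgp⟩ := g2_even (P := P.map E0.subtype) (K := L.map E0.subtype) hF (by omega) hV halt hnd
    (hiso P) (hiso L) hF₁ (eP.symm.trans e) hr (by rw [hcL]; exact hrK) (by rw [hcL]; exact hK1)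
    (by rw [hcL]; exact hK2) hF₂ (ρ.comp eL.symm.toMonoidHom) (by rw [hker]; exact hρ)
  obtain ⟨p, hpP, rfl⟩ := hp
  obtain ⟨l, hlL, hl⟩ := hgp
  have hgE : g ∈ E0 := (hE0 g).2 hg
  have h1 : l = ⟨g, hgE⟩ * p * (⟨g, hgE⟩ : E0)⁻¹ := Subtype.ext hl
  have h2 : (π ⟨g, hgE⟩ : G) * π p * (π ⟨g, hgE⟩ : G)⁻¹ ∈ Y := by
    have h3 := hLY l hlL
    rw [h1, map_mul, map_mul, map_inv] at h3
    exact h3
  have h4 := h.not_conj (hPX p hpP) _ h2
  have h5 : π p = 1 := Subtype.ext h4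
  have h6 : p = 1 := hπ (by rw [h5, map_one])
  apply hp1
  rw [h6]
  rfl

/-- **`Y ∩ T` is reducible.** -/
theorem red_false (h : Fac T X Y) {a : ℕ} (hF : Nat.card F = 2 ^ a) (ha : 3 ≤ a) (hV : finrank F V = 6)
    {B : LinearMap.BilinForm F V} (halt : ∀ x, B x x = 0) (hnd : ∀ x, (∀ y, B x y = 0) → x = 0)
    {E0 : Subgroup (V ≃ₗ[F] V)} (hE0 : ∀ g, g ∈ E0 ↔ ∀ x y, B (g x) (g y) = B x y) {π : E0 →* T}
    (hπ : Function.Injective π)
    {P : Subgroup E0} (hPX : ∀ p ∈ P, (π p : G) ∈ X)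
    {F₁ : Type w} [Field F₁] [Fintype F₁] (hF₁ : Fintype.card F₁ = 2 ^ a) (e : P ≃* chevG2.group F₁)
    {L : Subgroup E0} (hLY : ∀ x ∈ L, (π x : G) ∈ Y)
    {r : ℕ} (hr : Prim 2 (4 * a) r) (hrK : r ∣ Nat.card L)
    (hK1 : 2 * a + 1 < (Nat.card L).factorization 2) (hK2 : (Nat.card L).factorization 2 < 4 * a)
    {W : Submodule F V} (hW : ∀ x ∈ L, ∀ w ∈ W, (x : V ≃ₗ[F] V) w ∈ W) (hW0 : W ≠ ⊥) (hW1 : W ≠ ⊤) : False := by
  have := Fintype.ofFinite F
  have hchar : CharP F 2 := charP_two (a := a) (by rw [← Nat.card_eq_fintype_card, hF])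
  have H : Hyp F V r a := Hyp.of_prim hF (by omega) hr hV
  let eL := L.equivMapOfInjective E0.subtype E0.subtype_injective
  have hcL : Nat.card (L.map E0.subtype) = Nat.card L := Subgroup.card_map_of_injective E0.subtype_injective
  obtain ⟨ρ, hρ⟩ := rho_red H halt hnd (K := L.map E0.subtype) (by
      rintro _ ⟨g, -, rfl⟩
      exact (hE0 g).1 g.2) (by rw [hcL]; exact hrK) (X := W) (by
      rintro _ ⟨g, hg, rfl⟩
      exact hW g hg) hW0 hW1
  have hker : Nat.card (ρ.comp eL.toMonoidHom).ker = Nat.card ρ.ker := by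
    have h1 : (ρ.comp eL.toMonoidHom).ker = ρ.ker.comap eL.toMonoidHom := rfl
    rw [h1]
    exact Nat.card_congr (eL.toEquiv.subtypeEquiv fun x => Iff.rfl)
  exact gen_false h hF ha hV halt hnd hE0 hπ hPX hF₁ e hLY hr hrK hK1 hK2
    (by rw [← Nat.card_eq_fintype_card, hF]) (ρ.comp eL.toMonoidHom) (by rw [hker]; exact hρ)

end Cfsg.Agent.H544.Rg
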