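import Cfsg.Agent.H544.Rg.Rho
import Cfsg.Agent.H544.Rg.Fac
import Cfsg.Agent.H638.G2Iso
import Cfsg.Agent.H659.Rs.Box

/-!
# S3691, `Sp_6(q)`, `q` even: the boxes `BoxG2c`, `BoxG2y` of helper659 (helper544)
-/

set_option autoImplicit false
set_option linter.unusedSectionVars false

namespace Cfsg.Agent.H544.Rg

open Module Subgroup Cfsg Cfsg.Lie Cfsg.Geo Cfsg.Agent.H436 Cfsg.Agent.H659.Rs Cfsg.Agent.ClassicalGeometry.SympBasic
open scoped MatrixGroups Matrix

variable {F : Type} [Field F] [Fintype F]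

/-- matrices and linear equivalences -/
noncomputable def gle (ι : Type) [Fintype ι] [DecidableEq ι] (F : Type) [Field F] :
    GL ι F ≃* ((ι → F) ≃ₗ[F] (ι → F)) :=
  Matrix.GeneralLinearGroup.toLin.trans (LinearMap.GeneralLinearGroup.generalLinearEquiv F (ι → F))

theorem gle_apply {ι : Type} [Fintype ι] [DecidableEq ι] (g : GL ι F) (v : ι → F) :
    gle ι F g v = (g : Matrix ι ι F) *ᵥ v := rfl

theorem prim_of_pm {n r : ℕ} (hn : 0 < n) (h : Pm n r) : Prim 2 n r := by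
  refine ⟨h.prime, fun m => ?_, fun hd => ?_⟩
  · rw [← h.ord, orderOf_dvd_iff_pow_eq_one, ← ZMod.natCast_eq_zero_iff, Nat.cast_sub (Nat.one_le_two_pow),
      Nat.cast_pow, Nat.cast_one, sub_eq_zero]
  · have h1 : r = 2 := (Nat.prime_dvd_prime_iff_eq h.prime Nat.prime_two).1 hd
    have h2 := h.ord
    subst h1
    have h3 : ((2 : ℕ) : ZMod 2) = 0 := by decide
    rw [h3] at h2
    have h4 : orderOf (0 : ZMod 2) = 0 := by
      rw [orderOf_eq_zero_iff']
      intro k hk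
      rw [zero_pow hk.ne']
      decide
    omega

theorem mem_sp {m : ℕ} {g : GL (Fin m ⊕ Fin m) F} : g ∈ spGL m F ↔
    ∀ u v, sympBilin m F (gle _ F g u) (gle _ F g v) = sympBilin m F u v := Iff.rfl

theorem mem_sp_symm {m : ℕ} {s : (Fin m ⊕ Fin m → F) ≃ₗ[F] (Fin m ⊕ Fin m → F)}
    (h : ∀ u v, sympBilin m F (s u) (s v) = sympBilin m F u v) : (gle _ F).symm s ∈ spGL m F := by
  rw [mem_sp]
  simp only [MulEquiv.apply_symm_apply]
  exact h

theorem nd {m : ℕ} (x : Fin m ⊕ Fin m → F) (h : ∀ y, sympBilin m F x y = 0) : x = 0 :=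
  eq_zero_of_forall_sympForm_right h

/-- the rank of `x - 1` -/
theorem rank_eq {ι : Type} [Fintype ι] [DecidableEq ι] (x : GL ι F) :
    ((x : Matrix ι ι F) - 1).rank + finrank F (fix (gle ι F x)) = Fintype.card ι := by
  have h1 := finrank_com (gle ι F x)
  rw [Module.finrank_fintype_fun_eq_card] at h1
  have h2 : LinearMap.range (Matrix.mulVecLin ((x : Matrix ι ι F) - 1)) = com (gle ι F x) := by
    ext w
    constructor
    · rintro ⟨v, rfl⟩
      refine ⟨v, ?_⟩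
      change (x : Matrix ι ι F) *ᵥ v - v = ((x : Matrix ι ι F) - 1) *ᵥ v
      rw [Matrix.sub_mulVec, Matrix.one_mulVec]
    · rintro ⟨v, rfl⟩
      refine ⟨v, ?_⟩
      change ((x : Matrix ι ι F) - 1) *ᵥ v = (x : Matrix ι ι F) *ᵥ v - v
      rw [Matrix.sub_mulVec, Matrix.one_mulVec]
  rw [← h1, Matrix.rank, h2]

/-- **(G2c)** -/
theorem boxG2c : BoxG2c := by
  intro F _ _ f hf hF M P hM hcore ⟨e⟩ x hx hxx hx3
  have hchar : CharP F 2 := charP_two hF
  obtain ⟨e'⟩ := Cfsg.Agent.H638.G2Iso.equiv (F := F)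
  have hdim : finrank F (Fin 3 ⊕ Fin 3 → F) = 6 := by
    rw [Module.finrank_fintype_fun_eq_card]
    rfl
  -- the scalars
  have hsc : (scalars (Fin 3 ⊕ Fin 3) F).subgroupOf P = ⊥ := by
    rw [eq_bot_iff]
    rintro ⟨g, hgP⟩ hg
    rw [mem_subgroupOf] at hg
    obtain ⟨c, hc⟩ := hg
    have hgs : g ∈ spGL 3 F := hM.1.le (hcore.le hgP)
    have hmul : ∀ v, gle _ F g v = (c : F) • v := by
      intro v
      rw [gle_apply]
      have h1 : (g : Matrix (Fin 3 ⊕ Fin 3) (Fin 3 ⊕ Fin 3) F) = Matrix.scalar _ (c : F) := by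
        have h2 : g = _ := hc.symm
        rw [h2]
        rfl
      rw [h1, Matrix.scalar_apply]
      ext i
      rw [Matrix.mulVec_diagonal]
      rfl
    have h2 := mem_sp.1 hgs (Pi.single (Sum.inr 0) 1) (Pi.single (Sum.inl 0) 1)
    rw [hmul, hmul, map_smul, map_smul, LinearMap.smul_apply, sympBilin_apply, sympForm_single_inr_left, Pi.single_eq_same,
      smul_eq_mul, smul_eq_mul, mul_one] at h2
    have h3 : (c : F) = 1 := by
      have h4 : ((c : F) + 1) * ((c : F) + 1) = 0 := by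
        have h5 : ((c : F) + 1) * ((c : F) + 1) = (c : F) * c + 1 + ((c : F) + c) := by ring
        rw [h5, h2, add_self_F, add_self_F, add_zero]
      have h5 := mul_self_eq_zero.1 h4
      rw [← neg_F (1 : F)]
      exact eq_neg_of_add_eq_zero_left h5
    rw [Subgroup.mem_bot]
    apply Subtype.ext
    have h4 : gle _ F g = 1 := LinearEquiv.ext fun v => by
      rw [hmul v, h3, one_smul]
      rfl
    exact (gle _ F).injective (h4.trans (map_one _).symm)
  have eP : P ≃* chevG2.group F :=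
    ((QuotientGroup.quotientBot (G := P)).symm.trans (QuotientGroup.quotientMulEquivOfEq hsc.symm)).trans (e.trans e')
  let P' := P.map (gle (Fin 3 ⊕ Fin 3) F).toMonoidHom
  have eP' : P' ≃* chevG2.group F := (P.equivMapOfInjective _ (gle (Fin 3 ⊕ Fin 3) F).injective).symm.trans eP
  have h2a : 2 ≤ Nat.card F := Finite.one_lt_card
  obtain ⟨t, ⟨t, htP, rfl⟩, htt, ht3⟩ := exists_t (F := F) (V := Fin 3 ⊕ Fin 3 → F) hdim h2a
    (F' := F) Nat.card_eq_fintype_card.symm P' eP'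
  have hxr := rank_eq x
  rw [hx3] at hxr
  have hc6 : Fintype.card (Fin 3 ⊕ Fin 3) = 6 := rfl
  rw [hc6] at hxr
  have htM : t ∈ M := hcore.le htP
  obtain ⟨g, hg, hgx⟩ := conj_fix (B := sympBilin 3 F) sympForm_self nd hdim (s := gle _ F x)
    (t := gle _ F t) (mem_sp.1 hx) (mem_sp.1 (hM.1.le htM)) (by rw [← map_mul, hxx, map_one]) htt (by omega) ht3
  refine ⟨(gle _ F).symm g, mem_sp_symm hg, ?_⟩
  have h1 : (gle _ F).symm g * x * ((gle _ F).symm g)⁻¹ = t := by
    apply (gle _ F).injective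
    rw [map_mul, map_mul, map_inv, MulEquiv.apply_symm_apply, hgx]
  rw [h1]
  exact htM

/-- **(G2y)** -/
theorem boxG2y : BoxG2y := by
  intro F _ _ f r e hf hF hr he C hC hrC hcard W hCW hW
  have hchar : CharP F 2 := charP_two hF
  have hprim := prim_of_pm (by omega) hr
  have hFn : Nat.card F = 2 ^ f := by rw [Nat.card_eq_fintype_card, hF]
  have hdim : finrank F (Fin 3 ⊕ Fin 3 → F) = 6 := by
    rw [Module.finrank_fintype_fun_eq_card]
    rfl
  have H : Hyp F (Fin 3 ⊕ Fin 3 → F) r f := Hyp.of_prim hFn (by omega) hprim hdim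
  obtain ⟨hK1, hK2⟩ := num (by omega) Nat.card_pos.ne' hcard he
  obtain ⟨K, hK⟩ : ∃ K, K = C.map (gle (Fin 3 ⊕ Fin 3) F).toMonoidHom := ⟨_, rfl⟩
  have hcK : Nat.card K = Nat.card C := by
    rw [hK]
    exact Subgroup.card_map_of_injective (gle (Fin 3 ⊕ Fin 3) F).injective
  have hiso : ∀ g ∈ K, ∀ x y, sympBilin 3 F (g x) (g y) = sympBilin 3 F x y := by
    rw [hK]
    rintro _ ⟨g, hg, rfl⟩
    exact mem_sp.1 (hC hg)
  have hKW : ∀ g ∈ K, ∀ u ∈ W, g u ∈ W := by
    rw [hK]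
    rintro _ ⟨g, hg, rfl⟩ u hu
    exact ((hCW hg) u).1 hu
  have hW0 : W ≠ ⊥ := by
    rintro rfl
    rw [finrank_bot] at hW
    omega
  have hW1 : W ≠ ⊤ := by
    rintro rfl
    rw [finrank_top, hdim] at hW
    omega
  obtain ⟨ρ, hρ⟩ := rho_red H (B := sympBilin 3 F) sympForm_self nd hiso (by rw [hcK]; exact hrC) hKW hW0 hW1
  obtain ⟨x, hxK, hxx, hx3⟩ := H.exists_x_rho (by omega) hprim (by rw [hcK]; exact hrC) (by rw [hcK]; exact hK1)
    (by rw [hcK]; exact hK2) hF ρ hρ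
  rw [hK] at hxK
  obtain ⟨x, hxC, rfl⟩ := hxK
  refine ⟨x, hxC, (gle _ F).injective ?_, ?_⟩
  · rw [map_mul, map_one]
    exact hxx
  · have h1 := rank_eq x
    have hc6 : Fintype.card (Fin 3 ⊕ Fin 3) = 6 := rfl
    have hx3' : finrank F (fix (gle _ F x)) = 3 := hx3
    omega

end Cfsg.Agent.H544.Rg
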