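import Cfsg.Agent.H544.Rg.NormB
import Cfsg.Agent.H544.Rg.BoxC
import Cfsg.Agent.H659.Rs.Box3
import Cfsg.Agent.S1059
import Cfsg.Agent.S2121

/-!
# S3691, `Sp_6(q)`, `q` even: the box `BoxG2i` of helper659, the normaliser of `G₂(q)` (helper544)
-/

set_option autoImplicit false
set_option linter.unusedSectionVars false

namespace Cfsg.Agent.H544.Rg

open Module Subgroup Cfsg Cfsg.Lie Cfsg.Geo Cfsg.Agent.H436 Cfsg.Agent.H659.Rs Cfsg.Agent.ClassicalGeometry.SympBasic
open scoped MatrixGroups Matrix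

/-- the index divides `|Out|` -/
theorem index_dvd {K : Type*} [Group K] [Finite K] (M : Subgroup K) [hM : M.Normal]
    (hc : ∀ g : K, (∀ x ∈ M, g * x * g⁻¹ = x) → g = 1) {F : Type} [Field F] [Fintype F] {f : ℕ} (hf : 2 ≤ f)
    (hF : Fintype.card F = 2 ^ f) (e : M ≃* chevG2.group F) : M.index ∣ f := by
  have hinj : Function.Injective (MulAut.conjNormal : K →* MulAut M) := by
    rw [injective_iff_map_eq_one]
    intro g hg
    apply hc
    intro x hx
    have h1 := congrArg (fun a : MulAut M => ((a ⟨x, hx⟩ : M) : K)) hg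
    simp only [MulAut.conjNormal_apply, MulAut.one_apply] at h1
    exact h1
  have hinj2 : Function.Injective (MulAut.conj : M →* MulAut M) := by
    rw [injective_iff_map_eq_one]
    intro g hg
    apply Subtype.ext
    apply hc
    intro x hx
    have h1 := congrArg (fun a : MulAut M => ((a ⟨x, hx⟩ : M) : K)) hg
    exact h1
  have hfin : Finite (MulAut M) := Finite.of_injective (fun e : MulAut M => (e : M → M)) DFunLike.coe_injective
  have h1 := Subgroup.card_dvd_of_injective _ hinj
  have h2 : Nat.card (MulAut M) = Nat.card M * Nat.card (Cfsg.Out M) := by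
    have h1 := Subgroup.card_eq_card_quotient_mul_card_subgroup (Cfsg.Inn M)
    have h2 : Nat.card ↥(Cfsg.Inn M) = Nat.card M :=
      (Nat.card_congr (MonoidHom.ofInjective hinj2).toEquiv).symm
    rw [h1, h2, mul_comm]
  have h3 : Nat.card (Cfsg.Out M) = f := by
    have := Fact.mk Nat.prime_two
    have hchar : CharP F 2 := charP_two hF
    have h4 := Cfsg.Agent.S2121.result (F := F) 2 f hF (by
      calc 3 ≤ 2 ^ 2 := by norm_num
        _ ≤ 2 ^ f := Nat.pow_le_pow_right (by norm_num) hf)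
    rw [if_neg (by norm_num)] at h4
    -- transport
    have h5 : Nat.card (MulAut M) = Nat.card (MulAut (chevG2.group F)) := Nat.card_congr (MulAut.congr e).toEquiv
    have hinj3 : Function.Injective (MulAut.conj : chevG2.group F →* MulAut (chevG2.group F)) := by
      rw [injective_iff_map_eq_one]
      intro g hg
      have h6 : e.symm g = 1 := by
        apply hinj2
        rw [map_one]
        ext x
        have h7 := congrArg (fun a : MulAut (chevG2.group F) => e.symm (a (e x))) hg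
        simp only [MulAut.conj_apply, MulAut.one_apply, map_mul, map_inv, e.symm_apply_apply] at h7
        exact congrArg Subtype.val h7
      rw [← e.apply_symm_apply g, h6, map_one]
    have h6 : Nat.card (MulAut (chevG2.group F)) = Nat.card (chevG2.group F) * Nat.card (Cfsg.Out (chevG2.group F)) := by
      have h1 := Subgroup.card_eq_card_quotient_mul_card_subgroup (Cfsg.Inn (chevG2.group F))
      have h2 : Nat.card ↥(Cfsg.Inn (chevG2.group F)) = Nat.card (chevG2.group F) :=
        (Nat.card_congr (MonoidHom.ofInjective hinj3).toEquiv).symm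
      rw [h1, h2, mul_comm]
    rw [h2, h6, h4, Nat.card_congr e.toEquiv] at h5
    have hpos : 0 < Nat.card (chevG2.group F) := by
      rw [← Nat.card_congr e.toEquiv]
      exact Nat.card_pos
    exact Nat.eq_of_mul_eq_mul_left hpos h5
  rw [h2, h3, ← Subgroup.card_mul_index M] at h1
  exact Nat.dvd_of_mul_dvd_mul_left Nat.card_pos h1

variable {F : Type} [Field F] [Fintype F]

/-- scalars in `Sp`, characteristic two -/
theorem scalar_one [CharP F 2] {g : GL (Fin 3 ⊕ Fin 3) F} (hg : g ∈ scalars (Fin 3 ⊕ Fin 3) F) (hgs : g ∈ spGL 3 F) :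
    g = 1 := by
  obtain ⟨c, hc⟩ := hg
  have hmul : ∀ v, gle _ F g v = (c : F) • v := by
    intro v
    rw [gle_apply]
    have h1 : (g : Matrix (Fin 3 ⊕ Fin 3) (Fin 3 ⊕ Fin 3) F) = Matrix.scalar _ (c : F) := by
      have h2 : g = _ := hc.symm
      rw [h2]
      rfl
    rw [h1, Matrix.scalar_apply]
    ext i
    rw [Matrix.mulVec_diagonal]
    rfl
  have h2 := mem_sp.1 hgs (Pi.single (Sum.inr 0) 1) (Pi.single (Sum.inl 0) 1)
  rw [hmul, hmul, map_smul, map_smul, LinearMap.smul_apply, sympBilin_apply, sympForm_single_inr_left, Pi.single_eq_same,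
    smul_eq_mul, smul_eq_mul, mul_one] at h2
  have h3 : (c : F) = 1 := by
    have h4 : ((c : F) + 1) * ((c : F) + 1) = 0 := by
      have h5 : ((c : F) + 1) * ((c : F) + 1) = (c : F) * c + 1 + ((c : F) + c) := by ring
      rw [h5, h2, add_self_F, add_self_F, add_zero]
    have h5 := mul_self_eq_zero.1 h4
    rw [← neg_F (1 : F)]
    exact eq_neg_of_add_eq_zero_left h5
  have h4 : gle _ F g = 1 := LinearEquiv.ext fun v => by
    rw [hmul v, h3, one_smul]
    rfl
  exact (gle _ F).injective (h4.trans (map_one _).symm)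

/-- the core is `G₂(q)` -/
theorem exists_eP [CharP F 2] {P : Subgroup (GL (Fin 3 ⊕ Fin 3) F)} (hP : P ≤ spGL 3 F)
    (h : Nonempty ((P ⧸ (scalars (Fin 3 ⊕ Fin 3) F).subgroupOf P) ≃* Lie.G2 F)) :
    Nonempty (P ≃* Lie.G2 F) ∧ Nonempty (P ≃* chevG2.group F) := by
  obtain ⟨e⟩ := h
  obtain ⟨e'⟩ := Cfsg.Agent.H638.G2Iso.equiv (F := F)
  have hsc : (scalars (Fin 3 ⊕ Fin 3) F).subgroupOf P = ⊥ := by
    rw [eq_bot_iff]
    rintro ⟨g, hgP⟩ hg
    rw [Subgroup.mem_bot]
    apply Subtype.ext
    exact scalar_one hg (hP hgP)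
  have e1 : P ≃* Lie.G2 F :=
    ((QuotientGroup.quotientBot (G := P)).symm.trans (QuotientGroup.quotientMulEquivOfEq hsc.symm)).trans e
  exact ⟨⟨e1⟩, ⟨e1.trans e'⟩⟩

/-- **(G2i)** -/
theorem boxG2i : BoxG2i := by
  intro F _ _ f hf hF H P hH hcore he
  have hchar : CharP F 2 := charP_two hF
  obtain ⟨-, ⟨e⟩⟩ := exists_eP (hcore.le.trans hH) he
  have hcP : Nat.card P = (2 ^ f) ^ 6 * ((2 ^ f) ^ 2 - 1) * ((2 ^ f) ^ 6 - 1) := by
    rw [Nat.card_congr e.toEquiv, Cfsg.Agent.S1059.result hF]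
  refine ⟨hcP, (P.subgroupOf H).index, ?_, ?_, ?_⟩
  · rw [mul_comm, ← Nat.card_congr (subgroupOfEquivOfLe hcore.le).toEquiv, Subgroup.card_mul_index]
  · have hn : (P.subgroupOf H).Normal := ⟨fun x hx g => hcore.normal g g.2 x hx⟩
    refine index_dvd (P.subgroupOf H) ?_ (by omega) hF ((subgroupOfEquivOfLe hcore.le).trans e)
    intro g hg
    apply Subtype.ext
    refine scalar_one (hcore.centralizer_scalar g g.2 ?_) (hH g.2)
    intro x hx
    have h1 := congrArg Subtype.val (hg ⟨x, hcore.le hx⟩ hx)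
    have h2 : (g : GL (Fin 3 ⊕ Fin 3) F) * x * (g : GL (Fin 3 ⊕ Fin 3) F)⁻¹ = x := h1
    rw [h2, mul_inv_cancel]
    exact one_mem _
  · have hn : (P.subgroupOf H).Normal := ⟨fun x hx g => hcore.normal g g.2 x hx⟩
    have hdim : finrank F (Fin 3 ⊕ Fin 3 → F) = 6 := by
      rw [Module.finrank_fintype_fun_eq_card]
      rfl
    exact g2_index (F := F) (V := Fin 3 ⊕ Fin 3 → F) Finite.one_lt_card (B := sympBilin 3 F) sympForm_self nd hdim
      (F' := F) Nat.card_eq_fintype_card.symm ((gle (Fin 3 ⊕ Fin 3) F).toMonoidHom.comp H.subtype)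
      ((gle (Fin 3 ⊕ Fin 3) F).injective.comp H.subtype_injective) (fun g => mem_sp.1 (hH g.2)) (P.subgroupOf H) hn
      ((subgroupOfEquivOfLe hcore.le).trans e)

end Cfsg.Agent.H544.Rg
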