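import Cfsg.Agent.H901.SaxSpRow
import Cfsg.Agent.H813.SaxSpK
import Cfsg.Agent.H753.ResCard
import Cfsg.Agent.H957.SpIndex
import Cfsg.Agent.H905.SLProper
import Cfsg.Agent.H436.Ppd
import Cfsg.Agent.S5790
import Cfsg.Agent.S5791
import Cfsg.Agent.S1163
import Cfsg.Agent.S2126

/-!
# S3691: proper subgroups of `Sp_4(q)`, `q` even, of order divisible by a primitive prime divisor of `q^4 - 1` (helper544)

`card_cases` : the order divides `2 q² (q⁴ - 1)` or `2 a q² (q² + 1) (q - 1)`, `q = 2 ^ a`;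
`two_part` : the `2`-part of the order is at most `2 q²`.
-/

set_option autoImplicit false
set_option linter.unusedSectionVars false

namespace Cfsg.Agent.H544.Rg

open Module Cfsg Cfsg.Geo Cfsg.Agent.H884.El Cfsg.Agent.H955 Cfsg.Agent.H954.TSing Cfsg.Agent.H436
open Cfsg.Agent.H262.El (pre pre_le pre_ne scalars_le_pre mem_pre spToGL_injective two_le_of_symp)
open Cfsg.Agent.ClassicalGeometry.SympBasic Cfsg.Agent.H876 Cfsg.Agent.H931 Cfsg.Agent.H901.SaxSp
open Cfsg.Agent.H951 (fx cm Inv)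
open scoped MatrixGroups Matrix

variable {F : Type} [Field F] [Fintype F]

/-- the `2`-part of a divisor of `2 q² (odd)` -/
theorem fac_le {N a b : ℕ} (h : N ∣ 2 * (2 ^ a) ^ 2 * b) (hb : ¬ 2 ∣ b) : N.factorization 2 ≤ 2 * a + 1 := by
  have hb0 : b ≠ 0 := by
    rintro rfl
    exact hb (dvd_zero 2)
  have h0 : 2 * (2 ^ a) ^ 2 * b ≠ 0 := by positivity
  have h1 := (Nat.factorization_le_iff_dvd (ne_zero_of_dvd_ne_zero h0 h) h0).2 h 2
  have e : 2 * (2 ^ a) ^ 2 = 2 ^ (2 * a + 1) := by ring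
  rw [e, Nat.factorization_mul (by positivity) hb0, Finsupp.add_apply, Nat.Prime.factorization_pow Nat.prime_two,
    Finsupp.single_eq_same, Nat.factorization_eq_zero_of_not_dvd hb, add_zero] at h1
  exact h1

theorem odd_sub {a k : ℕ} (ha : 1 ≤ a) (hk : 1 ≤ k) : ¬ 2 ∣ (2 ^ a) ^ k - 1 := by
  have h1 : 2 ∣ (2 ^ a) ^ k := dvd_pow (dvd_pow_self 2 (by omega)) (by omega)
  have h2 : 1 ≤ (2 ^ a) ^ k := Nat.one_le_pow _ _ (by positivity)
  omega

theorem charP_two {F : Type*} [Field F] [Fintype F] {a : ℕ} (hF : Fintype.card F = 2 ^ a) : CharP F 2 := by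
  obtain ⟨p, hp⟩ := CharP.exists F
  obtain ⟨n, hpp, hn⟩ := FiniteField.card F p
  rw [hF] at hn
  have h1 : p ∣ 2 ^ a := by rw [hn]; exact dvd_pow_self _ n.pos.ne'
  have h2 : p = 2 := (Nat.prime_dvd_prime_iff_eq hpp Nat.prime_two).1 (hpp.dvd_of_dvd_pow h1)
  rw [h2] at hp
  exact hp

/-- **the maximal subgroups** -/
theorem card_cases_max {a : ℕ} (hF : Fintype.card F = 2 ^ a) (ha : 2 ≤ a) {r : ℕ} (hr : PP 2 (a * 4) r)
    {M : Subgroup (GL (Fin 2 ⊕ Fin 2) F)} (hM : IsMaximalIn (spGL 2 F) M) (hrM : r ∣ Nat.card M) :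
    Nat.card M ∣ 2 * (2 ^ a) ^ 2 * ((2 ^ a) ^ 4 - 1) ∨
      (Odd a ∧ Nat.card M ∣ 2 * (2 ^ a) ^ 2 * (a * (2 ^ a - 1) * ((2 ^ a) ^ 2 + 1))) := by
  classical
  have hc : Nat.card F = Fintype.card F := Nat.card_eq_fintype_card
  have hι : Fintype.card (Fin 2 ⊕ Fin 2) = 4 := by simp
  have hrq : PP (Nat.card F) 4 r := by rw [hc, hF]; exact hr.of_pow (by omega)
  have h4 : 4 ≤ Fintype.card F := by
    rw [hF]
    exact Nat.pow_le_pow_right (n := 2) (by norm_num) ha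
  have heven : Even (Fintype.card F) := by
    rw [hF]
    exact Even.pow_of_ne_zero even_two (by omega)
  have hodd : ¬ Odd (Fintype.card F) := Nat.not_odd_iff_even.2 heven
  have hchar : CharP F 2 := charP_two hF
  have hlt := hrq.lt (by omega)
  -- an irreducible element
  obtain ⟨y, hyM, hyr, hy1⟩ := exists_elt' hrq.prime hrM
  have hirr : ∀ W : Submodule F (Fin 2 ⊕ Fin 2 → F),
      (∀ v ∈ W, (y : Matrix (Fin 2 ⊕ Fin 2) (Fin 2 ⊕ Fin 2) F) *ᵥ v ∈ W) → W = ⊥ ∨ W = ⊤ :=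
    Cfsg.Agent.H262.El.irr_of_od (by rw [hι, ← hc]; exact PP.od hrq (by omega)) hyr hy1
  rcases S5790.result hodd h4 M hM with h | h | h | h | h | h
  · exfalso
    obtain ⟨W, hW0, hW, rfl⟩ := h
    exact Cfsg.Agent.H262.El.not_mem_subspaceStabilizer_of_irr hirr hW0
      (Cfsg.Agent.H262.El.totallySingular_ne_top (by omega) hW) hyM.1
  · exfalso
    obtain ⟨D, hD, rfl⟩ := h
    have := decomp_le hD.decomp inf_le_left hrq (by omega) hrM
    omega
  · obtain ⟨K, hK, hsa, halt, rfl⟩ := h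
    have := Cfsg.Agent.H813.SaxSp.card_field hK hsa halt
    rw [hF] at this
    exact Or.inl this
  · exfalso
    obtain ⟨F₀, s, P, ζ, hs, hcard, -, -, rfl⟩ := h
    exact kill_subfield inf_le_left hs (by rw [hc]; exact hcard) Nat.prime_two (by rw [hc]; exact hF) hr (by omega)
      (by omega) hrM
  · obtain ⟨Q0, hQ, hpol, rfl⟩ := h
    obtain ⟨Q, hQ', hnd⟩ := Cfsg.Agent.H883.Bridge.exists_quadraticForm hQ
    subst hQ'
    have hHi := le_isometryGroup (F := F) (m := 2) (by omega) hpol rfl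
    have hfin := finrank_sum (F := F) 2
    obtain ⟨g, hgH, hiso, -, hg1⟩ := exists_elt hHi hrq (by omega) hrM
    obtain ⟨hcm, hcmP⟩ := hiso.even_case hnd (lin_ne_one hg1) hrq (by decide) (by omega)
    have hcmt : cm (lin g) = ⊤ := Submodule.eq_top_of_finrank_eq (by rw [hcm, hfin])
    have hnP : ¬ IsPlus Q := by
      intro hP
      apply hcmP
      rw [hcmt]
      obtain ⟨U, hU, hUd⟩ := hP
      refine ⟨U.comap (⊤ : Submodule F _).subtype, fun w hw => ?_, ?_⟩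
      · rw [res_apply]
        exact hU _ hw
      · rw [finrank_top, ← hUd]
        congr 1
        exact ((Submodule.comapSubtypeEquivOfLe (p := U) (q := ⊤) le_top).finrank_eq)
    have hnd' : Cfsg.Agent.LieClassical.OrthCore.Nondeg Q := by
      intro x hx
      apply eq_zero_of_forall_sympForm_right
      intro z
      rw [← hpol]
      exact hx z
    have hcard := Cfsg.Agent.H957.card_isometryGroup_minus Q hnd' (m := 2) (by norm_num) hι hnP
    have h1 := Subgroup.card_dvd_of_le hHi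
    rw [hcard, hF] at h1
    simp only [Nat.reduceSub, Finset.range_one, Finset.prod_singleton, zero_add, mul_one] at h1
    left
    refine h1.trans (dvd_of_eq ?_)
    have hq : 1 < (2 ^ a) ^ 2 := Nat.one_lt_pow (by norm_num) (Nat.one_lt_pow (by omega) (by norm_num))
    obtain ⟨c, hc⟩ : ∃ c, (2 ^ a) ^ 2 = c + 1 := ⟨_, (Nat.sub_add_cancel hq.le).symm⟩
    rw [show (2 ^ a) ^ 4 = ((2 ^ a) ^ 2) ^ 2 by ring, hc, Nat.add_sub_cancel]
    have : (c + 1) ^ 2 - 1 = (c + 1 + 1) * c := by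
      have : (c + 1) ^ 2 = (c + 1 + 1) * c + 1 := by ring
      rw [this, Nat.add_sub_cancel]
    rw [this]
    ring
  · obtain ⟨P, m, hcore, hm, hF', ⟨e⟩⟩ := S5791.result hodd h4 M hM h
    have hdvd := Cfsg.Agent.H753.ResCard.card_dvd hM.1.le hcore
    have h1 : Nat.card (MulAut (P ⧸ (scalars (Fin 2 ⊕ Fin 2) F).subgroupOf P)) =
        Nat.card (MulAut (Cfsg.Lie.Sz F (2 ^ (m + 1)))) := Nat.card_congr (MulAut.congr e).toEquiv
    have h2 : Nat.card (MulAut (Cfsg.Lie.Sz F (2 ^ (m + 1)))) ∣ (2 * m + 1) * Nat.card (Cfsg.Lie.Sz F (2 ^ (m + 1))) := by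
      rw [← S2126.result hm hF', Subgroup.card_eq_card_quotient_mul_card_subgroup
        (Cfsg.Inn (Cfsg.Lie.Sz F (2 ^ (m + 1))))]
      exact Nat.mul_dvd_mul_left _ (Subgroup.card_range_dvd _)
    rw [(S1163.result hm hF').1] at h2
    rw [h1] at hdvd
    have h3 := hdvd.trans (Nat.mul_dvd_mul_left 2 h2)
    have ham : a = 2 * m + 1 := by
      rw [hF] at hF'
      exact Nat.pow_right_injective le_rfl hF'
    rw [← ham] at h3
    right
    refine ⟨?_, h3.trans (dvd_of_eq (by ring))⟩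
    rw [ham]
    exact ⟨m, rfl⟩

theorem pp_of_prim {q e r : ℕ} (hq : 1 ≤ q) (h : Prim q e r) : PP q e r := by
  refine ⟨h.prime, ?_⟩
  have key : ∀ k, (q : ZMod r) ^ k = 1 ↔ e ∣ k := by
    intro k
    rw [← h.dvd_iff k, ← ZMod.natCast_eq_zero_iff, Nat.cast_sub (Nat.one_le_pow _ _ hq), Nat.cast_pow,
      Nat.cast_one, sub_eq_zero]
  apply Nat.dvd_antisymm
  · exact orderOf_dvd_of_pow_eq_one ((key e).2 dvd_rfl)
  · exact (key _).1 (pow_orderOf_eq_one _)

/-- **the order of a proper subgroup** -/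
theorem card_cases {a : ℕ} (hF : Fintype.card F = 2 ^ a) (ha : 2 ≤ a) {r : ℕ} (hr : Prim 2 (4 * a) r)
    {R : Subgroup (GL (Fin 2 ⊕ Fin 2) F)} (hR : R ≤ spGL 2 F) (hne : R ≠ spGL 2 F) (hrR : r ∣ Nat.card R) :
    Nat.card R ∣ 2 * (2 ^ a) ^ 2 * ((2 ^ a) ^ 4 - 1) ∨
      (Odd a ∧ Nat.card R ∣ 2 * (2 ^ a) ^ 2 * (a * (2 ^ a - 1) * ((2 ^ a) ^ 2 + 1))) := by
  classical
  obtain ⟨M, hM, hRM⟩ := Cfsg.Agent.H905.exists_isMaximalIn_of_lt (lt_of_le_of_ne hR hne)
  have hd := Subgroup.card_dvd_of_le hRM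
  rcases card_cases_max hF ha (by rw [mul_comm]; exact pp_of_prim (by norm_num) hr) hM
    (hrR.trans hd) with h | ⟨h1, h⟩
  · exact Or.inl (hd.trans h)
  · exact Or.inr ⟨h1, hd.trans h⟩

/-- **the `2`-part of a proper subgroup** -/
theorem two_part {a : ℕ} (hF : Fintype.card F = 2 ^ a) (ha : 2 ≤ a) {r : ℕ} (hr : Prim 2 (4 * a) r)
    {R : Subgroup (GL (Fin 2 ⊕ Fin 2) F)} (hR : R ≤ spGL 2 F) (hne : R ≠ spGL 2 F) (hrR : r ∣ Nat.card R) :
    (Nat.card R).factorization 2 ≤ 2 * a + 1 := by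
  rcases card_cases hF ha hr hR hne hrR with h | ⟨h1, h⟩
  · exact fac_le h (odd_sub (by omega) (by omega))
  · refine fac_le h ?_
    intro h4
    rcases (Nat.prime_two.dvd_mul).1 h4 with h5 | h5
    · rcases (Nat.prime_two.dvd_mul).1 h5 with h6 | h6
      · exact (Nat.not_even_iff_odd.2 h1) (even_iff_two_dvd.2 h6)
      · have := odd_sub (a := a) (k := 1) (by omega) le_rfl
        rw [pow_one] at this
        exact this h6
    · have : 2 ∣ (2 ^ a) ^ 2 := dvd_pow (dvd_pow_self 2 (by omega)) (by omega)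
      omega

end Cfsg.Agent.H544.Rg
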