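import Mathlib

/-!
# S3691, `Sp_6(q)`, `q` even: group theory (helper544)

* `pow_card_eq_one` : `g y g⁻¹ = y ^ k`, `y ∈ GL(V)` of prime order `r`, `dim V < 2 c`, `c` the order of `q` mod `r`: `k ^ c = 1` mod `r`
* `exists_inv_or` : cyclic Sylow `r`-subgroups, `k ^ 4 = 1`: an element of order `r` is inverted or there is a normal `r`-complement
* `exists_norm` : Frattini
* `cent_of_lt` : an element of order `r` normalising a small `2`-subgroup centralises it
-/

set_option autoImplicit false
set_option linter.unusedSectionVars false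

namespace Cfsg.Agent.H544.Rg

open Module Polynomial Subgroup

section lin

variable {F V : Type*} [Field F] [AddCommGroup V] [Module F V]

theorem aeval_conj {A : Type*} [Ring A] [Algebra F A] {g x y : A} (h : g * x = y * g) (P : F[X]) :
    g * aeval x P = aeval y P * g := by
  induction P using Polynomial.induction_on' with
  | add p q hp hq => rw [map_add, map_add, mul_add, add_mul, hp, hq]
  | monomial n a =>
    rw [aeval_monomial, aeval_monomial]
    have h1 : ∀ n : ℕ, g * x ^ n = y ^ n * g := by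
      intro n
      induction n with
      | zero => rw [pow_zero, pow_zero, mul_one, one_mul]
      | succ n ih => rw [pow_succ, pow_succ, ← mul_assoc, ih, mul_assoc, h, mul_assoc]
    rw [← mul_assoc, ← Algebra.commutes a g, mul_assoc, h1, mul_assoc]

theorem pow_card_eq_one [Finite F] [FiniteDimensional F V] {r c : ℕ} [hr : Fact r.Prime] (hrF : (r : F) ≠ 0)
    (hc : orderOf (Nat.card F : ZMod r) = c) (hd : finrank F V < 2 * c) {y g : V ≃ₗ[F] V} (hy : y ^ r = 1)
    (hy1 : y ≠ 1) {k : ℕ} (hg : g * y * g⁻¹ = y ^ k) : (k : ZMod r) ^ c = 1 := by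
  classical
  have := Fintype.ofFinite F
  rw [Nat.card_eq_fintype_card] at hc
  set Y : Module.End F V := (y : V →ₗ[F] V) with hY
  have hYp : ∀ n : ℕ, Y ^ n = ((y ^ n : V ≃ₗ[F] V) : V →ₗ[F] V) := by
    intro n
    induction n with
    | zero => rfl
    | succ n ih =>
      rw [pow_succ, pow_succ, ih]
      rfl
  set P := minpoly F Y with hP
  have hint : IsIntegral F Y := Algebra.IsIntegral.isIntegral Y
  have hP0 : P ≠ 0 := minpoly.ne_zero hint
  have hdeg : P.natDegree ≤ finrank F V := by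
    have h1 : P ∣ Y.charpoly := LinearMap.minpoly_dvd_charpoly Y
    have h2 := Polynomial.natDegree_le_of_dvd h1 (LinearMap.charpoly_monic Y).ne_zero
    rwa [LinearMap.charpoly_natDegree] at h2
  let C := AlgebraicClosure F
  -- a common root of `P` and `1 + X + ... + X ^ (r - 1)`
  set Φ : F[X] := ∑ i ∈ Finset.range r, X ^ i with hΦ
  have hdvd : P ∣ (X - 1) * Φ := by
    apply minpoly.dvd
    rw [mul_geom_sum, map_sub, map_pow, map_one, aeval_X, hYp, hy]
    exact sub_self _
  obtain ⟨l, hl1, hl2⟩ : ∃ l : C, aeval l P = 0 ∧ aeval l Φ = 0 := by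
    by_contra hcon
    push Not at hcon
    have h1 : IsCoprime P Φ := by
      rw [Polynomial.isCoprime_iff_aeval_ne_zero_of_isAlgClosed F C]
      intro a
      by_cases ha : aeval a P = 0
      · exact Or.inr (hcon a ha)
      · exact Or.inl ha
    have h2 : P ∣ X - 1 := h1.dvd_of_dvd_mul_right hdvd
    obtain ⟨Q, hQ⟩ := h2
    have h3 := congrArg (aeval Y) hQ
    rw [map_mul, hP, minpoly.aeval, zero_mul, map_sub, map_one, aeval_X, sub_eq_zero] at h3
    apply hy1
    ext v
    exact LinearMap.congr_fun h3 v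
  have hlr : l ^ r = 1 := by
    have h1 := congrArg (aeval l) (mul_geom_sum (X : F[X]) r)
    rw [map_mul, ← hΦ, hl2, mul_zero, map_sub, map_pow, map_one, aeval_X] at h1
    exact (sub_eq_zero.1 h1.symm)
  have hl : l ≠ 1 := by
    rintro rfl
    rw [hΦ, map_sum] at hl2
    simp only [map_pow, aeval_X, one_pow, Finset.sum_const, Finset.card_range, nsmul_eq_mul, mul_one] at hl2
    apply hrF
    have h3 : algebraMap F C (r : F) = 0 := by rw [map_natCast]; exact hl2
    exact (map_eq_zero _).1 h3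
  have hlo : orderOf l = r := orderOf_eq_prime hlr hl
  -- the exponents of the roots
  have hq : ∀ a : ℕ, aeval (l ^ a) P = 0 → aeval (l ^ (a * Fintype.card F)) P = 0 := by
    intro a ha
    rw [pow_mul]
    have h1 : aeval (l ^ a) (expand F (Fintype.card F) P) = 0 := by
      rw [FiniteField.expand_card, map_pow, ha, zero_pow Fintype.card_ne_zero]
    rwa [expand_aeval] at h1
  have hk : ∀ a : ℕ, aeval (l ^ a) P = 0 → aeval (l ^ (a * k)) P = 0 := by
    intro a ha
    have h1 : P ∣ P.comp (X ^ k) := by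
      apply minpoly.dvd
      rw [aeval_comp, map_pow, aeval_X]
      have h2 : (g : V →ₗ[F] V) * Y = Y ^ k * (g : V →ₗ[F] V) := by
        rw [hYp, ← hg]
        ext v
        change g (y v) = g (y (g⁻¹ (g v)))
        congr 2
        exact (g.symm_apply_apply v).symm
      have h3 := aeval_conj h2 P
      rw [hP, minpoly.aeval, mul_zero] at h3
      have h4 : aeval (Y ^ k) P * (g : Module.End F V) * (g⁻¹ : V ≃ₗ[F] V) = 0 := by
        rw [hP, ← h3, zero_mul]
      rw [mul_assoc] at h4
      have h5 : (g : Module.End F V) * ((g⁻¹ : V ≃ₗ[F] V) : Module.End F V) = 1 := by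
        ext v
        exact g.apply_symm_apply v
      rwa [h5, mul_one] at h4
    obtain ⟨Q, hQ⟩ := h1
    have h6 := congrArg (aeval (l ^ a)) hQ
    rw [map_mul, ha, zero_mul, aeval_comp, map_pow, aeval_X, ← pow_mul] at h6
    exact h6
  have hqi : ∀ (a i : ℕ), aeval (l ^ a) P = 0 → aeval (l ^ (a * Fintype.card F ^ i)) P = 0 := by
    intro a i ha
    induction i with
    | zero => rwa [pow_zero, mul_one]
    | succ i ih =>
      rw [pow_succ, ← mul_assoc]
      exact hq _ ih
  have hinj : ∀ a b : ℕ, l ^ a = l ^ b ↔ (a : ZMod r) = b := by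
    intro a b
    have hl0 : l ≠ 0 := by
      rintro h0
      rw [h0, zero_pow hr.out.ne_zero] at hlr
      exact zero_ne_one hlr
    have hL : orderOf (Units.mk0 l hl0) = r := by rw [← orderOf_units, Units.val_mk0, hlo]
    have h1 := pow_inj_mod (x := Units.mk0 l hl0) (n := a) (m := b)
    rw [hL, Units.ext_iff, Units.val_pow_eq_pow_val, Units.val_pow_eq_pow_val, Units.val_mk0] at h1
    rw [h1, ZMod.natCast_eq_natCast_iff']
  by_contra hne
  -- too many roots
  let S : Finset C := (Finset.range c).image fun i => l ^ (1 * Fintype.card F ^ i)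
  let S' : Finset C := (Finset.range c).image fun i => l ^ (k * Fintype.card F ^ i)
  have hqu : ∀ i, IsUnit ((Fintype.card F : ZMod r) ^ i) := by
    intro i
    rcases Nat.eq_zero_or_pos c with h0 | h0
    · exfalso
      rw [h0] at hd
      omega
    · exact (IsUnit.of_pow_eq_one (by rw [← hc]; exact pow_orderOf_eq_one _) h0.ne').pow i
  have hqinj : ∀ i < c, ∀ j < c, (Fintype.card F : ZMod r) ^ i = (Fintype.card F : ZMod r) ^ j → i = j := by
    intro i hi j hj hij
    rw [← hc] at hi hj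
    exact pow_injOn_Iio_orderOf hi hj hij
  have hkc : (k : ZMod r) ≠ 0 := by
    intro h0
    have h1 : y ^ k = 1 := by
      rw [← orderOf_dvd_iff_pow_eq_one, orderOf_eq_prime hy hy1]
      exact (ZMod.natCast_eq_zero_iff _ _).1 h0
    rw [h1] at hg
    apply hy1
    rw [mul_inv_eq_one] at hg
    exact mul_left_cancel (hg.trans (mul_one g).symm)
  have hS : S.card = c := by
    rw [Finset.card_image_of_injOn, Finset.card_range]
    intro i hi j hj hij
    rw [Finset.coe_range, Set.mem_Iio] at hi hj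
    simp only [one_mul] at hij
    rw [hinj, Nat.cast_pow, Nat.cast_pow] at hij
    exact hqinj i hi j hj hij
  have hS' : S'.card = c := by
    rw [Finset.card_image_of_injOn, Finset.card_range]
    intro i hi j hj hij
    rw [Finset.coe_range, Set.mem_Iio] at hi hj
    simp only at hij
    rw [hinj, Nat.cast_mul, Nat.cast_mul, Nat.cast_pow, Nat.cast_pow] at hij
    exact hqinj i hi j hj (mul_left_cancel₀ hkc hij)
  have hdis : Disjoint S S' := by
    rw [Finset.disjoint_left]
    intro a ha ha'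
    obtain ⟨i, -, rfl⟩ := Finset.mem_image.1 ha
    obtain ⟨j, -, hj⟩ := Finset.mem_image.1 ha'
    rw [hinj, one_mul, Nat.cast_mul, Nat.cast_pow, Nat.cast_pow] at hj
    apply hne
    have h1 := congrArg (fun x => x ^ c) hj
    beta_reduce at h1
    rw [mul_pow, ← pow_mul, ← pow_mul, mul_comm j c, mul_comm i c, pow_mul, pow_mul] at h1
    rw [← hc, pow_orderOf_eq_one, one_pow, one_pow, mul_one] at h1
    rw [← hc]
    exact h1
  have hsub : S ∪ S' ⊆ (P.aroots C).toFinset := by
    intro a ha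
    rw [Multiset.mem_toFinset, Polynomial.mem_aroots]
    refine ⟨hP0, ?_⟩
    rcases Finset.mem_union.1 ha with ha | ha
    · obtain ⟨i, -, rfl⟩ := Finset.mem_image.1 ha
      exact hqi 1 i (by rwa [pow_one])
    · obtain ⟨i, -, rfl⟩ := Finset.mem_image.1 ha
      refine hqi k i ?_
      have := hk 1 (by rwa [pow_one])
      rwa [one_mul] at this
  have h1 := Finset.card_le_card hsub
  rw [Finset.card_union_of_disjoint hdis, hS, hS'] at h1
  have h2 := Multiset.toFinset_card_le (P.aroots C)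
  have h3 : Multiset.card (P.aroots C) ≤ P.natDegree := by
    refine (Polynomial.card_roots' _).trans ?_
    exact Polynomial.natDegree_map_le
  omega

end lin

section grp

variable {K : Type*} [Group K] [Finite K]

theorem conj_pow_pow {g z : K} {k : ℕ} (h : g * z * g⁻¹ = z ^ k) (i : ℕ) : g ^ i * z * (g ^ i)⁻¹ = z ^ k ^ i := by
  induction i with
  | zero => rw [pow_zero, pow_zero, pow_one]; group
  | succ i ih =>
    have h1 : g ^ (i + 1) * z * (g ^ (i + 1))⁻¹ = g * (g ^ i * z * (g ^ i)⁻¹) * g⁻¹ := by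
      rw [pow_succ']; group
    rw [h1, ih, ← conj_pow, h, ← pow_mul, pow_succ']

/-- an element of order `r` is inverted or there is a normal `r`-complement -/
theorem exists_inv_or {r : ℕ} [hr : Fact r.Prime] (hcyc : ∀ P : Sylow r K, IsCyclic P)
    (hk : ∀ y g : K, orderOf y = r → ∀ k : ℕ, g * y * g⁻¹ = y ^ k → (k : ZMod r) ^ 4 = 1) :
    (∃ y t : K, orderOf y = r ∧ t * y * t⁻¹ = y⁻¹) ∨ ∃ M : Subgroup K, M.Normal ∧ ¬ r ∣ Nat.card M ∧ ∃ n, M.index = r ^ n := by
  obtain ⟨R⟩ : Nonempty (Sylow r K) := inferInstance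
  by_cases hN : normalizer ((R : Subgroup K) : Set K) ≤ centralizer ((R : Subgroup K) : Set K)
  · right
    refine ⟨(MonoidHom.transferSylow R hN).ker, inferInstance, MonoidHom.not_dvd_card_ker_transferSylow R hN, ?_⟩
    have h1 := MonoidHom.ker_transferSylow_isComplement' R hN
    obtain ⟨n, hn⟩ := R.isPGroup'.exists_card_eq
    exact ⟨n, by rw [h1.symm.index_eq_card, hn]⟩
  · left
    have hRc := hcyc R
    obtain ⟨g₀, hg₀N, hg₀C⟩ := SetLike.not_le_iff_exists.1 hN
    have hRab : (R : Subgroup K) ≤ centralizer ((R : Subgroup K) : Set K) := by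
      intro a ha
      rw [mem_centralizer_iff]
      intro b hb
      have := IsCyclic.commGroup (α := R) |>.mul_comm ⟨b, hb⟩ ⟨a, ha⟩
      exact congrArg Subtype.val this
    -- an `r'`-element
    obtain ⟨g, hgN, hgC, hgr⟩ : ∃ g ∈ normalizer ((R : Subgroup K) : Set K), g ∉ centralizer ((R : Subgroup K) : Set K) ∧
        Nat.Coprime r (orderOf g) := by
      obtain ⟨j, m, hm, hjm⟩ := Nat.exists_eq_pow_mul_and_not_dvd (orderOf_pos g₀).ne' r hr.out.ne_one
      have hm0 : m ≠ 0 := by
        rintro rfl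
        exact hm (dvd_zero _)
      refine ⟨g₀ ^ r ^ j, Subgroup.pow_mem _ hg₀N _, ?_, ?_⟩
      · intro hcon
        apply hg₀C
        have h1 : g₀ ^ m ∈ (R : Subgroup K) := by
          have h2 : IsPGroup r (zpowers (g₀ ^ m)) := by
            rw [IsPGroup.iff_card]
            refine ⟨j, ?_⟩
            rw [Nat.card_zpowers, orderOf_pow' _ hm0, hjm, Nat.gcd_eq_right (dvd_mul_left _ _), Nat.mul_div_cancel _ (Nat.pos_of_ne_zero hm0)]
          have h3 := h2.inf_normalizer_sylow R
          have h4 : g₀ ^ m ∈ zpowers (g₀ ^ m) ⊓ normalizer ((R : Subgroup K) : Set K) :=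
            ⟨mem_zpowers _, Subgroup.pow_mem _ hg₀N _⟩
          exact (h3.le h4).2
        have hco : Nat.Coprime (r ^ j) m := Nat.Coprime.pow_left _ ((Nat.Prime.coprime_iff_not_dvd hr.out).2 hm)
        have h5 : (g₀ ^ r ^ j) ^ (Nat.gcdA (r ^ j) m) * (g₀ ^ m) ^ (Nat.gcdB (r ^ j) m) = g₀ := by
          rw [← zpow_natCast g₀ (r ^ j), ← zpow_natCast g₀ m, ← zpow_mul, ← zpow_mul, ← zpow_add]
          have h6 := Nat.gcd_eq_gcd_ab (r ^ j) m
          rw [hco] at h6
          rw [← h6, Nat.cast_one, zpow_one]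
        rw [← h5]
        exact Subgroup.mul_mem _ (Subgroup.zpow_mem _ hcon _) (Subgroup.zpow_mem _ (hRab h1) _)
      · rw [orderOf_pow' _ (pow_ne_zero _ hr.out.ne_zero), hjm, Nat.gcd_eq_right (dvd_mul_right _ _),
          Nat.mul_div_cancel_left _ (pow_pos hr.out.pos _)]
        exact (Nat.Prime.coprime_iff_not_dvd hr.out).2 hm
    -- the generator
    obtain ⟨⟨z, hz⟩, hgen⟩ := IsCyclic.exists_generator (α := R)
    have hgen' : ∀ x ∈ (R : Subgroup K), ∃ k : ℕ, x = z ^ k := by
      intro x hx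
      obtain ⟨k, hk⟩ := (mem_powers_iff_mem_zpowers.2 (hgen ⟨x, hx⟩))
      exact ⟨k, (congrArg Subtype.val hk).symm⟩
    have hcz : ¬ g * z * g⁻¹ = z := by
      intro hcon
      apply hgC
      rw [mem_centralizer_iff]
      intro x hx
      obtain ⟨k, rfl⟩ := hgen' x hx
      have h1 : Commute g z := by
        rw [commute_iff_eq]
        exact mul_inv_eq_iff_eq_mul.1 hcon
      exact ((h1.pow_right k).eq).symm
    have hz1 : z ≠ 1 := by
      rintro rfl
      exact hcz (by group)
    obtain ⟨n, hn⟩ : ∃ n, orderOf z = r ^ (n + 1) := by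
      obtain ⟨n, hn⟩ := (IsPGroup.iff_orderOf.1 R.isPGroup') ⟨z, hz⟩
      rw [orderOf_mk] at hn
      rcases Nat.eq_zero_or_pos n with h0 | h0
      · exfalso
        rw [h0, pow_zero, orderOf_eq_one_iff] at hn
        exact hz1 hn
      · exact ⟨n - 1, by rw [hn, Nat.sub_add_cancel h0]⟩
    obtain ⟨k, hkz⟩ := hgen' _ ((mem_normalizer_iff.1 hgN z).1 hz)
    have hyo : orderOf (z ^ r ^ n) = r := by
      rw [orderOf_pow' _ (pow_ne_zero _ hr.out.ne_zero), hn, Nat.gcd_eq_right (pow_dvd_pow _ (Nat.le_succ n)), pow_succ,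
        Nat.mul_div_cancel_left _ (pow_pos hr.out.pos _)]
    have hgy : g * z ^ r ^ n * g⁻¹ = (z ^ r ^ n) ^ k := by
      rw [← conj_pow, hkz, ← pow_mul, ← pow_mul, mul_comm]
    have h4 := hk _ g hyo k hgy
    have hfac : ((k : ZMod r) - 1) * (((k : ZMod r) + 1) * ((k : ZMod r) ^ 2 + 1)) = 0 := by
      have : ((k : ZMod r) - 1) * (((k : ZMod r) + 1) * ((k : ZMod r) ^ 2 + 1)) = (k : ZMod r) ^ 4 - 1 := by ring
      rw [this, h4, sub_self]
    rcases mul_eq_zero.1 hfac with h5 | h5
    · exfalso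
      -- `g` centralises `z`
      have h6 : ((r : ℤ)) ∣ (k : ℤ) - 1 := by
        rw [← ZMod.intCast_eq_intCast_iff_dvd_sub]
        push_cast
        exact (sub_eq_zero.1 h5).symm
      have h7 := dvd_sub_pow_of_dvd_sub h6 n
      rw [one_pow] at h7
      have h8 : g ^ r ^ n * z * (g ^ r ^ n)⁻¹ = z := by
        rw [conj_pow_pow hkz]
        have h9 : z ^ ((k : ℤ) ^ r ^ n - 1) = 1 := by
          rw [← orderOf_dvd_iff_zpow_eq_one, hn]
          exact_mod_cast h7
        rw [zpow_sub, zpow_one, mul_inv_eq_one] at h9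
        exact_mod_cast h9
      apply hcz
      have h10 : Commute (g ^ r ^ n) z := mul_inv_eq_iff_eq_mul.1 h8
      have h11 : Nat.Coprime (orderOf g) (r ^ n) := (Nat.Coprime.pow_left n hgr).symm
      obtain ⟨m, hm⟩ := exists_pow_eq_self_of_coprime h11.symm
      have h12 : Commute g z := by
        rw [← hm]
        exact h10.pow_left m
      rw [mul_inv_eq_iff_eq_mul]
      exact h12
    · rcases mul_eq_zero.1 h5 with h6 | h6
      · refine ⟨z ^ r ^ n, g, hyo, ?_⟩
        rw [hgy, eq_inv_iff_mul_eq_one, ← pow_succ, ← orderOf_dvd_iff_pow_eq_one, hyo, ← ZMod.natCast_eq_zero_iff]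
        push_cast
        exact h6
      · refine ⟨z ^ r ^ n, g ^ 2, hyo, ?_⟩
        rw [conj_pow_pow hgy, eq_inv_iff_mul_eq_one, ← pow_succ, ← orderOf_dvd_iff_pow_eq_one, hyo,
          ← ZMod.natCast_eq_zero_iff]
        push_cast
        exact h6

/-- Frattini -/
theorem exists_norm {r : ℕ} (hr : r.Prime) (M : Subgroup K) (hM : M.Normal)
    (hrM : ¬ r ∣ Nat.card M) {y : K} (hy : orderOf y = r) : ∃ S : Subgroup K, S ≤ M ∧
      Nat.card S = 2 ^ (Nat.card M).factorization 2 ∧ y ∈ normalizer (S : Set K) := by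
  have := Fact.mk hr
  obtain ⟨P⟩ : Nonempty (Sylow 2 M) := inferInstance
  have h1 := Sylow.normalizer_sup_eq_top P
  obtain ⟨S, hS⟩ : ∃ S, S = (P : Subgroup M).map M.subtype := ⟨_, rfl⟩
  have hSM : S ≤ M := by rw [hS]; exact map_subtype_le _
  have hcS : Nat.card S = 2 ^ (Nat.card M).factorization 2 := by
    rw [hS, Subgroup.card_map_of_injective M.subtype_injective, P.card_eq_multiplicity]
  rw [← hS] at h1
  set N := normalizer (S : Set K) with hN
  have hidx : N.index ∣ Nat.card M := by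
    have h2 : M.relIndex N = M.index := by
      rw [← Subgroup.relIndex_sup_right, h1, relIndex_top_right]
    have h3 : Nat.card (M.subgroupOf N) * M.relIndex N = Nat.card N := Subgroup.card_mul_index _
    have h4 := Subgroup.card_mul_index N
    have h5 := Subgroup.card_mul_index M
    have h6 : 0 < M.index := Nat.pos_of_ne_zero M.index_ne_zero_of_finite
    refine ⟨Nat.card (M.subgroupOf N), ?_⟩
    apply Nat.eq_of_mul_eq_mul_right h6
    rw [h5, ← h4, ← h3, h2]
    ring
  have hni : ¬ r ∣ Nat.card (K ⧸ N) := fun h => hrM (h.trans hidx)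
  have hpg : IsPGroup r (zpowers y) := IsPGroup.of_card (n := 1) (by rw [Nat.card_zpowers, hy, pow_one])
  obtain ⟨x, hx⟩ := hpg.nonempty_fixed_point_of_prime_not_dvd_card (K ⧸ N) hni
  obtain ⟨g, rfl⟩ := QuotientGroup.mk_surjective x
  have h7 : y • (g : K ⧸ N) = (g : K ⧸ N) := hx ⟨y, mem_zpowers y⟩
  have h8 : g⁻¹ * y * g ∈ N := by
    have h9 : ((y * g : K) : K ⧸ N) = (g : K ⧸ N) := h7
    have h10 := QuotientGroup.eq.1 h9.symm
    rwa [← mul_assoc] at h10
  refine ⟨S.map (MulAut.conj g).toMonoidHom, ?_, ?_, ?_⟩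
  · rintro _ ⟨s, hs, rfl⟩
    exact hM.conj_mem s (hSM hs) g
  · rw [Subgroup.card_map_of_injective (MulAut.conj g).injective, hcS]
  · rw [mem_normalizer_iff]
    intro z
    have key : ∀ z : K, z ∈ S.map (MulAut.conj g).toMonoidHom ↔ g⁻¹ * z * g ∈ S := by
      intro z
      constructor
      · rintro ⟨s, hs, rfl⟩
        have : g⁻¹ * (MulAut.conj g).toMonoidHom s * g = s := by
          change g⁻¹ * (g * s * g⁻¹) * g = s
          group
        rwa [this]
      · intro h
        refine ⟨_, h, ?_⟩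
        change g * (g⁻¹ * z * g) * g⁻¹ = z
        group
    rw [key, key, mem_normalizer_iff.1 h8]
    have : g⁻¹ * y * g * (g⁻¹ * z * g) * (g⁻¹ * y * g)⁻¹ = g⁻¹ * (y * z * y⁻¹) * g := by group
    rw [this]

/-- an element of order `r` normalising a small `2`-subgroup centralises it -/
theorem cent_of_lt {r o : ℕ} (hr : r.Prime) (hr2 : r ≠ 2) (ho : ∀ m, r ∣ 2 ^ m - 1 → o ∣ m) {S : Subgroup K} {y : K}
    (hS : IsPGroup 2 S) (hlt : Nat.card S < 2 ^ o) (hy : y ∈ normalizer (S : Set K)) (hyr : y ^ r = 1) :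
    ∀ s ∈ S, y * s * y⁻¹ = s := by
  classical
  have := Fact.mk hr
  have := Fact.mk Nat.prime_two
  have hmem : ∀ s : S, y * s * y⁻¹ ∈ S := fun s => (mem_normalizer_iff.1 hy s).1 s.2
  let f : Function.End S := fun s => ⟨y * s * y⁻¹, hmem s⟩
  have hf : ∀ (n : ℕ) (s : S), ((f ^ n) s : K) = y ^ n * s * (y ^ n)⁻¹ := by
    intro n s
    induction n with
    | zero =>
      rw [pow_zero, pow_zero]
      change (s : K) = 1 * s * 1⁻¹
      group
    | succ n ih =>
      rw [pow_succ']
      change y * ((f ^ n) s : K) * y⁻¹ = _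
      rw [ih, pow_succ']
      group
  have hfr : f ^ r ^ 1 = 1 := by
    funext s
    apply Subtype.ext
    rw [hf, pow_one, hyr]
    change 1 * (s : K) * 1⁻¹ = s
    group
  have := Fintype.ofFinite S
  have h1 := Equiv.Perm.card_fixedPoints_modEq hfr
  rw [Fintype.card_eq_nat_card, Fintype.card_eq_nat_card] at h1
  let C : Subgroup K := S ⊓ centralizer {y}
  have hC : Nat.card (Function.fixedPoints f) = Nat.card C := by
    refine Nat.card_congr ⟨fun s => ⟨(s : S), (s : S).2, ?_⟩, fun c => ⟨⟨c, c.2.1⟩, Subtype.ext ?_⟩, fun _ => rfl, fun _ => rfl⟩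
    · have h2 : y * (s : S) * y⁻¹ = (s : S) := congrArg Subtype.val s.2
      change ((s : S) : K) ∈ centralizer {y}
      rw [mem_centralizer_singleton_iff]
      exact (mul_inv_eq_iff_eq_mul.1 h2).symm
    · have h2 := c.2.2
      change (c : K) ∈ centralizer {y} at h2
      rw [mem_centralizer_singleton_iff] at h2
      change y * (c : K) * y⁻¹ = c
      rw [← h2]
      group
  rw [hC] at h1
  obtain ⟨m, hm⟩ := hS.exists_card_eq
  obtain ⟨n, hn⟩ := (hS.to_le (inf_le_left : C ≤ S)).exists_card_eq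
  have hle : Nat.card C ≤ Nat.card S := Subgroup.card_le_of_le inf_le_left
  rw [hm, hn] at h1
  rw [hm] at hlt
  rw [hm, hn] at hle
  have hnm : n ≤ m := (Nat.pow_le_pow_iff_right (by norm_num)).1 hle
  have h2 := (Nat.modEq_iff_dvd' (Nat.pow_le_pow_right (by norm_num) hnm)).1 h1.symm
  have e : 2 ^ m - 2 ^ n = 2 ^ n * (2 ^ (m - n) - 1) := by
    rw [Nat.mul_sub, mul_one, ← pow_add, Nat.add_sub_cancel' hnm]
  rw [e] at h2
  have h3 : r ∣ 2 ^ (m - n) - 1 :=
    (hr.dvd_mul.1 h2).resolve_left fun h => hr2 ((Nat.prime_dvd_prime_iff_eq hr Nat.prime_two).1 (hr.dvd_of_dvd_pow h))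
  have h4 := ho _ h3
  have h5 : m < o := (Nat.pow_lt_pow_iff_right (by norm_num)).1 hlt
  have h6 : m - n = 0 := Nat.eq_zero_of_dvd_of_lt h4 (by omega)
  have h7 : C = S := Subgroup.eq_of_le_of_card_ge inf_le_left (by rw [hm, hn]; exact Nat.pow_le_pow_right (by norm_num) (by omega))
  intro s hs
  rw [← h7] at hs
  have h8 := hs.2
  change s ∈ centralizer {y} at h8
  rw [mem_centralizer_singleton_iff] at h8
  rw [← h8]
  group

end grp

end Cfsg.Agent.H544.Rg
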