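import Cfsg.Agent.H544.Rg.Bound
import Cfsg.Agent.H663.SP.Sp6

/-!
# S3691, `Sp_6(q)`, `q` even: the case `A ≤ N(K)`, `K` a cubic field (helper544)
-/

set_option autoImplicit false
set_option linter.unusedSectionVars false

namespace Cfsg.Agent.H544.RgA

open Module Subgroup Cfsg Cfsg.Geo Cfsg.Agent.H436 Cfsg.Agent.H659.Rs Cfsg.Agent.ClassicalGeometry.SympBasic
open Cfsg.Agent.H544.Rg (odd_sub card_cases)
open Cfsg.Agent.H663.SP (pm_lt pm_not_lt pm_ne_two pm_not_add_one two_eq_zero sp_equiv_psl card_subgroupOf card_spGL_one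
  pm_not_two_pow pm_dvd)
open scoped MatrixGroups Matrix

theorem prim_of_pm' {n r : ℕ} (hn : 0 < n) (h : Pm n r) : Prim 2 n r := by
  refine ⟨h.prime, fun m => ?_, fun hd => ?_⟩
  · rw [← h.ord, orderOf_dvd_iff_pow_eq_one, ← ZMod.natCast_eq_zero_iff, Nat.cast_sub (Nat.one_le_two_pow),
      Nat.cast_pow, Nat.cast_one, sub_eq_zero]
  · exact pm_ne_two h hn ((Nat.prime_dvd_prime_iff_eq h.prime Nat.prime_two).1 hd)

/-! ### numbers -/

theorem lt_two_pow {f : ℕ} (hf : 7 ≤ f) : 6 * f < 2 ^ f := by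
  induction f, hf using Nat.le_induction with
  | base => norm_num
  | succ n hn ih => rw [pow_succ]; omega

theorem sub2 (p : ℕ) : (p + 1) ^ 2 - 1 = p * (p + 2) := by
  have : (p + 1) ^ 2 = p * (p + 2) + 1 := by ring
  omega

theorem sub4 (p : ℕ) : (p + 1) ^ 4 - 1 = p * (p + 2) * ((p + 1) ^ 2 + 1) := by
  have : (p + 1) ^ 4 = p * (p + 2) * ((p + 1) ^ 2 + 1) + 1 := by ring
  omega

section num

variable {f c e : ℕ} (hf : 7 ≤ f) (hc : c ∣ 3) (he : e ∣ f)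

include hf hc he

theorem ce_pos : 0 < c * e := by
  refine Nat.mul_pos (Nat.pos_of_ne_zero ?_) (Nat.pos_of_ne_zero ?_)
  · rintro rfl
    omega
  · rintro rfl
    rw [Nat.zero_dvd] at he
    omega

theorem ce_le : c * e ≤ 3 * f :=
  Nat.mul_le_mul (Nat.le_of_dvd (by norm_num) hc) (Nat.le_of_dvd (by omega) he)

theorem numv {N X : ℕ} (hN : N ≠ 0) (hX : ¬ 2 ∣ X) (h : N * (c * e) = (2 ^ f) ^ 6 * X) :
    5 * f < N.factorization 2 := by
  have h1 := ce_pos hf hc he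
  have h2 := ce_le hf hc he
  have h3 := lt_two_pow hf
  have hX0 : X ≠ 0 := by
    rintro rfl
    exact hX (dvd_zero 2)
  have h4 := congrArg (fun n => n.factorization 2) h
  beta_reduce at h4
  rw [Nat.factorization_mul hN h1.ne', Nat.factorization_mul (by positivity) hX0, Finsupp.add_apply, Finsupp.add_apply,
    Nat.factorization_eq_zero_of_not_dvd hX, ← pow_mul, Nat.Prime.factorization_pow Nat.prime_two,
    Finsupp.single_eq_same, add_zero] at h4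
  have h5 : 2 ^ (c * e).factorization 2 ≤ c * e := Nat.ordProj_le 2 h1.ne'
  have h6 : (c * e).factorization 2 < f := by
    by_contra hcon
    push Not at hcon
    have := Nat.pow_le_pow_right (n := 2) (by norm_num) hcon
    omega
  omega

theorem numO {N : ℕ} (h : N * (c * e) = (2 ^ f) ^ 6 * (((2 ^ f) ^ 2 - 1) * ((2 ^ f) ^ 4 - 1)))
    (hN : N ∣ 2 * ((2 ^ f) ^ 6 * ((2 ^ f) ^ 4 - 1) * (2 ^ f - 1))) : False := by
  have h1 := ce_pos hf hc he
  have h2 := ce_le hf hc he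
  have h3 := lt_two_pow hf
  have h4 := Nat.mul_dvd_mul_right hN (c * e)
  rw [h] at h4
  obtain ⟨p, hp⟩ : ∃ p, 2 ^ f = p + 1 := ⟨2 ^ f - 1, by omega⟩
  rw [hp] at h4 h3
  rw [sub2, sub4, Nat.add_sub_cancel] at h4
  have hp0 : 0 < p := by omega
  have h5 : (p + 1) ^ 6 * (p * (p + 2) * ((p + 1) ^ 2 + 1)) * p * (p + 2) ∣
      (p + 1) ^ 6 * (p * (p + 2) * ((p + 1) ^ 2 + 1)) * p * (2 * (c * e)) := by
    convert h4 using 1 <;> ring
  have h6 := Nat.dvd_of_mul_dvd_mul_left (by positivity) h5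
  have h7 := Nat.le_of_dvd (by omega) h6
  omega

theorem cop_sq (i : ℕ) : Nat.Coprime (2 ^ f + 1) (2 ^ i) := by
  apply Nat.Coprime.pow_right
  rw [Nat.coprime_comm, Nat.Prime.coprime_iff_not_dvd Nat.prime_two]
  have : 2 ∣ 2 ^ f := dvd_pow_self 2 (by omega)
  omega

theorem numP1 {a t : ℕ} (ht : t ∣ 2 ^ f - 1) (ha : a ≤ 2 ^ f ∨ (2 ^ f) ^ 4 ≤ a)
    (h : a * t * ((2 ^ f) ^ 4 * (((2 ^ f) ^ 2 - 1) * ((2 ^ f) ^ 4 - 1))) * (c * e) =
      (2 ^ f) ^ 6 * (((2 ^ f) ^ 2 - 1) * ((2 ^ f) ^ 4 - 1))) : False := by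
  have h1 := ce_pos hf hc he
  have h2 := ce_le hf hc he
  have h3 := lt_two_pow hf
  obtain ⟨p, hp⟩ : ∃ p, 2 ^ f = p + 1 := ⟨2 ^ f - 1, by omega⟩
  rw [hp] at h h3 ht ha
  rw [sub2, sub4] at h
  rw [Nat.add_sub_cancel] at ht
  have hp0 : 0 < p := by omega
  have h5 : (p + 1) ^ 4 * (p * (p + 2) * (p * (p + 2) * ((p + 1) ^ 2 + 1))) * (a * t * (c * e)) =
      (p + 1) ^ 4 * (p * (p + 2) * (p * (p + 2) * ((p + 1) ^ 2 + 1))) * (p + 1) ^ 2 := by
    calc _ = a * t * ((p + 1) ^ 4 * (p * (p + 2) * (p * (p + 2) * ((p + 1) ^ 2 + 1)))) * (c * e) := by ring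
      _ = _ := by rw [h]; ring
  have h6 := Nat.eq_of_mul_eq_mul_left (by positivity) h5
  have ht1 : t = 1 := by
    have h7 : t ∣ (p + 1) ^ 2 := ⟨a * (c * e), by rw [← h6]; ring⟩
    have h8 : Nat.Coprime p ((p + 1) ^ 2) := by
      apply Nat.Coprime.pow_right
      simp
    exact Nat.eq_one_of_dvd_coprimes h8 ht h7
  rw [ht1, mul_one] at h6
  rcases ha with ha | ha
  · have h7 : a * (c * e) < (p + 1) ^ 2 := by
      calc a * (c * e) ≤ (p + 1) * (c * e) := Nat.mul_le_mul_right _ ha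
        _ < (p + 1) * (p + 1) := Nat.mul_lt_mul_of_pos_left (by omega) (by omega)
        _ = _ := by ring
    omega
  · have h7 : a ≤ (p + 1) ^ 2 := by
      rw [← h6]
      exact Nat.le_mul_of_pos_right a h1
    have h8 : (p + 1) ^ 2 < (p + 1) ^ 4 := Nat.pow_lt_pow_right (by omega) (by norm_num)
    omega

theorem numP2 {a t n i : ℕ} (ht : t ∣ 2 ^ f - 1) (ha : a = 2 ^ i) (hn : n ∣ 2 * (2 ^ f) ^ 2 * ((2 ^ f) ^ 4 - 1))
    (h : a * t * n * (c * e) = (2 ^ f) ^ 6 * (((2 ^ f) ^ 2 - 1) * ((2 ^ f) ^ 4 - 1))) : False := by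
  have h1 := ce_pos hf hc he
  have h2 := ce_le hf hc he
  have h3 := lt_two_pow hf
  have hcop := cop_sq hf hc he (i + 1)
  have h4 : a * t * n * (c * e) ∣ a * (2 ^ f - 1) * (2 * (2 ^ f) ^ 2 * ((2 ^ f) ^ 4 - 1)) * (c * e) :=
    Nat.mul_dvd_mul_right (Nat.mul_dvd_mul (Nat.mul_dvd_mul_left a ht) hn) _
  rw [h] at h4
  obtain ⟨p, hp⟩ : ∃ p, 2 ^ f = p + 1 := ⟨2 ^ f - 1, by omega⟩
  rw [hp] at h4 h3 hcop
  rw [sub2, sub4, Nat.add_sub_cancel] at h4
  have hp0 : 0 < p := by omega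
  have h5 : ((p + 1) ^ 2 * (p * (p + 2) * ((p + 1) ^ 2 + 1)) * p) * ((p + 1) ^ 4 * (p + 2)) ∣
      ((p + 1) ^ 2 * (p * (p + 2) * ((p + 1) ^ 2 + 1)) * p) * (a * 2 * (c * e)) := by
    convert h4 using 1 <;> ring
  have h6 := (Dvd.intro_left _ rfl).trans (Nat.dvd_of_mul_dvd_mul_left (by positivity) h5)
  rw [ha, ← pow_succ] at h6
  have h7 := hcop.dvd_of_dvd_mul_left h6
  have h8 := Nat.le_of_dvd h1 h7
  omega

theorem numP3 {a t n i : ℕ} (ht : t ∣ 2 ^ f - 1) (ha : a = 2 ^ i)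
    (hn : n ∣ 2 * (2 ^ f) ^ 2 * (f * (2 ^ f - 1) * ((2 ^ f) ^ 2 + 1)))
    (h : a * t * n * (c * e) = (2 ^ f) ^ 6 * (((2 ^ f) ^ 2 - 1) * ((2 ^ f) ^ 4 - 1))) : False := by
  have h1 := ce_pos hf hc he
  have h2 := ce_le hf hc he
  have h3 := lt_two_pow hf
  have hcop := (cop_sq hf hc he (i + 1)).pow_left 2
  have h4 : a * t * n * (c * e) ∣ a * (2 ^ f - 1) * (2 * (2 ^ f) ^ 2 * (f * (2 ^ f - 1) * ((2 ^ f) ^ 2 + 1))) * (c * e) :=
    Nat.mul_dvd_mul_right (Nat.mul_dvd_mul (Nat.mul_dvd_mul_left a ht) hn) _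
  rw [h] at h4
  obtain ⟨p, hp⟩ : ∃ p, 2 ^ f = p + 1 := ⟨2 ^ f - 1, by omega⟩
  rw [hp] at h4 h3 hcop
  rw [sub2, sub4, Nat.add_sub_cancel] at h4
  have hp0 : 0 < p := by omega
  have h5 : ((p + 1) ^ 2 * p ^ 2 * ((p + 1) ^ 2 + 1)) * ((p + 1) ^ 4 * (p + 2) ^ 2) ∣
      ((p + 1) ^ 2 * p ^ 2 * ((p + 1) ^ 2 + 1)) * (a * 2 * (f * (c * e))) := by
    convert h4 using 1 <;> ring
  have h6 := (Dvd.intro_left _ rfl).trans (Nat.dvd_of_mul_dvd_mul_left (by positivity) h5)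
  rw [ha, ← pow_succ] at h6
  have h7 := hcop.dvd_of_dvd_mul_left h6
  have h8 := Nat.le_of_dvd (Nat.mul_pos (by omega) h1) h7
  have h9 : f * (c * e) ≤ (p + 1) * (p + 1) := Nat.mul_le_mul (by omega) (by omega)
  have h10 : (p + 1) * (p + 1) < (p + 1 + 1) ^ 2 := by
    have : (p + 1 + 1) ^ 2 = (p + 1) * (p + 1) + 2 * p + 3 := by ring
    omega
  omega

end num

/-- **(A3)** -/
theorem caseA3 (h1 : BoxExt) (h2 : BoxPsl2) (h3 : Over3b) (h4 : BoxO6p) (h5 : BoxO6m) (h6 : BoxP1) (h7 : BoxN2) :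
    CaseA3 := by
  intro F _ _ f r s t hf hF hr hs ht A C hpr hno hrA hsA htC K hK1 hK2 hK3 hAK
  classical
  -- the order of `A`
  obtain ⟨E, _, _, R1, hE, hR1, hd1, hd2⟩ := h1 Nat.prime_three le_rfl (by norm_num) K hK1 hK2 hK3 A hpr.le1 hAK
  have hE' : Fintype.card E = 2 ^ (3 * f) := by rw [hE, hF, ← pow_mul, mul_comm]
  have hE2 : (2 : E) = 0 := two_eq_zero hE' (by omega)
  have hrR1 : r ∣ Nat.card R1 := by
    rcases (hr.prime.dvd_mul).1 (hrA.trans hd1) with h5 | h5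
    · exact absurd h5 (pm_not_lt hr (by omega) (by norm_num) (by omega))
    · exact h5
  have hsR1 : s ∣ Nat.card R1 := by
    rcases (hs.prime.dvd_mul).1 (hsA.trans hd1) with h5 | h5
    · exact absurd h5 (pm_not_lt hs (by omega) (by norm_num) (by omega))
    · exact h5
  have hcS : Nat.card (R1.subgroupOf (spGL 1 E)) = Nat.card R1 := by
    rw [card_subgroupOf, inf_eq_right.2 hR1]
  have hr' : Pm (2 * (3 * f)) r := by
    have : 2 * (3 * f) = 6 * f := by ring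
    rw [this]
    exact hr
  have hR1c : Nat.card R1 = 2 ^ (3 * f) * (2 ^ (6 * f) - 1) := by
    rcases h2 (by omega) hE' (sp_equiv_psl E hE2) hr' (R1.subgroupOf (spGL 1 E)) (by rw [hcS]; exact hrR1) with h5 | h5
    · have h6 : R1 = spGL 1 E := le_antisymm hR1 (Subgroup.subgroupOf_eq_top.1 h5)
      rw [h6, card_spGL_one, hE', ← pow_mul, show 3 * f * 2 = 6 * f by ring]
    · exfalso
      rw [hcS] at h5
      rcases (hs.prime.dvd_mul).1 (hsR1.trans h5) with h6 | h6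
      · exact pm_ne_two hs (by omega) ((Nat.prime_dvd_prime_iff_eq hs.prime Nat.prime_two).1 h6)
      · exact pm_not_add_one hs (by omega) dvd_rfl h6
  obtain ⟨c, hc⟩ := hd2
  have hR1pos : 0 < Nat.card R1 := Nat.card_pos
  have hc3 : c ∣ 3 := by
    rw [hc, mul_comm 3] at hd1
    exact Nat.dvd_of_mul_dvd_mul_left hR1pos hd1
  have hR1c' : Nat.card R1 = (2 ^ f) ^ 3 * ((2 ^ f) ^ 6 - 1) := by
    rw [hR1c, ← pow_mul, ← pow_mul, mul_comm f 3, mul_comm f 6]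
  -- the order of `C`
  obtain ⟨e, hef, hcard⟩ := hpr.card
  have hsp : Nat.card (spGL 3 F) = (2 ^ f) ^ 9 * (((2 ^ f) ^ 2 - 1) * ((2 ^ f) ^ 4 - 1) * ((2 ^ f) ^ 6 - 1)) := by
    rw [H663.SP.card_spGL, Cfsg.Agent.S0245.result hF 3]
    simp only [Finset.prod_range_succ, Finset.prod_range_zero]
    norm_num
  have hcC : Nat.card C * (c * e) = (2 ^ f) ^ 6 * (((2 ^ f) ^ 2 - 1) * ((2 ^ f) ^ 4 - 1)) := by
    apply Nat.eq_of_mul_eq_mul_left hR1pos
    have h1 : Nat.card R1 * (Nat.card C * (c * e)) = Nat.card A * Nat.card C * e := by rw [hc]; ring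
    rw [h1, hcard, hsp, hR1c']
    ring
  have hodd : ¬ 2 ∣ ((2 ^ f) ^ 2 - 1) * ((2 ^ f) ^ 4 - 1) := fun hd =>
    (Nat.prime_two.dvd_mul.1 hd).elim (odd_sub (by omega) (by omega)) (odd_sub (by omega) (by omega))
  have hv := numv hf hc3 hef (N := Nat.card C) Nat.card_pos.ne' hodd hcC
  -- the maximal overgroup of `C`
  obtain ⟨M, hM, hCM⟩ := Cfsg.Agent.H905.exists_isMaximalIn_of_lt (lt_of_le_of_ne hpr.le2 hpr.ne2)
  have htM : t ∣ Nat.card M := htC.trans (Subgroup.card_dvd_of_le hCM)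
  rcases h3 (by omega) hF ht M hM htM with ⟨v, hv0, hMv⟩ | ⟨W, hW2, hWn, hMW⟩ | ⟨Q, hQn, hQp, hMQ⟩
  · obtain ⟨C1, a, t', hC1, hCc, ht', ⟨i, hi⟩, ha⟩ := h6 (m := 3) (f := f) (r := t) (by norm_num) (by omega) hF ht v hv0 C
      hpr.le2 (hCM.trans hMv) htC
    by_cases hne : C1 = spGL 2 F
    · have hsp2 : Nat.card (spGL 2 F) = (2 ^ f) ^ 4 * (((2 ^ f) ^ 2 - 1) * ((2 ^ f) ^ 4 - 1)) := by
        rw [H663.SP.card_spGL, Cfsg.Agent.S0245.result hF 2]
        simp only [Finset.prod_range_succ, Finset.prod_range_zero]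
        norm_num
      rw [hCc, show (C1 : Subgroup (GL (Fin (3 - 1) ⊕ Fin (3 - 1)) F)) = spGL 2 F from hne] at hcC
      refine numP1 hf hc3 hef ht' ha ?_
      rw [← hcC]
      congr 2
      exact hsp2.symm
    · have htC1 : t ∣ Nat.card C1 := by
        rw [hCc] at htC
        rcases (ht.prime.dvd_mul).1 htC with h8 | h8
        · exfalso
          rcases (ht.prime.dvd_mul).1 h8 with h9 | h9
          · rw [hi] at h9
            exact pm_not_two_pow ht (by omega) _ h9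
          · have h10 := (pm_dvd ht f).1 (h9.trans ht')
            have := Nat.le_of_dvd (by omega) h10
            omega
        · exact h8
      rw [hCc] at hcC
      rcases card_cases hF (by omega) (prim_of_pm' (by omega) ht) hC1 hne htC1 with h8 | ⟨-, h8⟩
      · exact numP2 hf hc3 hef ht' hi h8 hcC
      · exact numP3 hf hc3 hef ht' hi h8 hcC
  · obtain ⟨C1, a, hC1, hCc, ha⟩ := h7 (m := 3) (by norm_num) W hW2 hWn C hpr.le2 (hCM.trans hMW)
    have hsp2 : Nat.card (spGL 2 F) = (2 ^ f) ^ 4 * (((2 ^ f) ^ 2 - 1) * ((2 ^ f) ^ 4 - 1)) := by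
      rw [H663.SP.card_spGL, Cfsg.Agent.S0245.result hF 2]
      simp only [Finset.prod_range_succ, Finset.prod_range_zero]
      norm_num
    have h8 : Nat.card C ∣ (2 ^ f) ^ 5 * (((2 ^ f) ^ 2 - 1) * (((2 ^ f) ^ 2 - 1) * ((2 ^ f) ^ 4 - 1))) := by
      have h9 : Nat.card C1 ∣ Nat.card (spGL 2 F) := Subgroup.card_dvd_of_le hC1
      rw [hsp2] at h9
      rw [hF] at ha
      have h10 := Nat.mul_dvd_mul ha h9
      rw [← hCc] at h10
      exact h10.trans (dvd_of_eq (by ring))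
    have hodd2 : ¬ 2 ∣ ((2 ^ f) ^ 2 - 1) * (((2 ^ f) ^ 2 - 1) * ((2 ^ f) ^ 4 - 1)) := fun hd =>
      (Nat.prime_two.dvd_mul.1 hd).elim (odd_sub (by omega) (by omega)) hodd
    have h0 : ((2 ^ f) ^ 2 - 1) * (((2 ^ f) ^ 2 - 1) * ((2 ^ f) ^ 4 - 1)) ≠ 0 := by
      intro h0
      rw [h0] at hodd2
      exact hodd2 (dvd_zero 2)
    have h9 := (Nat.factorization_le_iff_dvd Nat.card_pos.ne' (mul_ne_zero (by positivity) h0)).2 h8 2
    rw [Nat.factorization_mul (by positivity) h0, Finsupp.add_apply, ← pow_mul,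
      Nat.Prime.factorization_pow Nat.prime_two, Finsupp.single_eq_same, Nat.factorization_eq_zero_of_not_dvd hodd2] at h9
    omega
  · have hv2 : v2 C = (Nat.card C).factorization 2 := rfl
    by_cases hplus : IsPlusTypeOn Q ⊤
    · rcases h4 (by omega) hF ht hs Q hQn hplus C (hCM.trans hMQ) htC with h8 | ⟨-, h8⟩
      · exact hno Q hQn hQp h8
      · omega
    · rcases (h5 (by omega) hF Q hQn hplus C (hCM.trans hMQ)).1 t r ht hr htC with h8 | ⟨-, h8⟩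
      · exact hno Q hQn hQp h8
      · rcases h8 with h8 | ⟨h8, h9 | h9⟩
        · omega
        · omega
        · exact numO hf hc3 hef hcC h9

end Cfsg.Agent.H544.RgA
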