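import Cfsg.Agent.H544.Rg.BoxI
import Cfsg.Agent.H905.SLProper
import Cfsg.Agent.H663.SP.Res

/-!
# S3691, `Sp_6(q)`, `q` even: the case `A ≥ G₂(q)` (helper544)
-/

set_option autoImplicit false
set_option linter.unusedSectionVars false

namespace Cfsg.Agent.H544.Rg

open Module Subgroup Cfsg Cfsg.Lie Cfsg.Geo Cfsg.Agent.H436 Cfsg.Agent.H659.Rs Cfsg.Agent.ClassicalGeometry.SympBasic
open scoped MatrixGroups Matrix

theorem num2 {N a j e : ℕ} (ha : 7 ≤ a) (hN : N ≠ 0) (h : N * (j * e) = (2 ^ a) ^ 3 * ((2 ^ a) ^ 4 - 1)) (hj : Odd j)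
    (he : e ∣ a) : 2 * a + 2 < N.factorization 2 ∧ N.factorization 2 < 4 * a := by
  have hodd : ¬ 2 ∣ (2 ^ a) ^ 4 - 1 := odd_sub (by omega) (by omega)
  have h0 : (2 ^ a) ^ 4 - 1 ≠ 0 := by
    intro h0
    rw [h0] at hodd
    exact hodd (dvd_zero 2)
  have he0 : e ≠ 0 := by
    rintro rfl
    rw [mul_zero, mul_zero] at h
    have : (2 ^ a) ^ 3 * ((2 ^ a) ^ 4 - 1) ≠ 0 := mul_ne_zero (by positivity) h0
    exact this h.symm
  have hj0 : j ≠ 0 := by
    rintro rfl
    exact absurd hj (by decide)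
  have hj2 : ¬ 2 ∣ j := fun hd => (Nat.not_even_iff_odd.2 hj) (even_iff_two_dvd.2 hd)
  have h1 := congrArg (fun n => n.factorization 2) h
  beta_reduce at h1
  rw [Nat.factorization_mul hN (mul_ne_zero hj0 he0), Nat.factorization_mul hj0 he0,
    Nat.factorization_mul (by positivity) h0, Finsupp.add_apply, Finsupp.add_apply, Finsupp.add_apply,
    Nat.factorization_eq_zero_of_not_dvd hodd, Nat.factorization_eq_zero_of_not_dvd hj2, ← pow_mul,
    Nat.Prime.factorization_pow Nat.prime_two, Finsupp.single_eq_same, add_zero, zero_add] at h1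
  have h2 : 2 ^ e.factorization 2 ≤ a :=
    (Nat.le_of_dvd (Nat.pos_of_ne_zero he0) (Nat.ordProj_dvd e 2)).trans (Nat.le_of_dvd (by omega) he)
  have h3 : e.factorization 2 < a - 2 := by
    by_contra hcon
    push Not at hcon
    have h4 : 2 ^ (a - 2) ≤ a := (Nat.pow_le_pow_right (by norm_num) hcon).trans h2
    have h5 : a < 2 ^ (a - 2) := by
      obtain ⟨b, rfl⟩ : ∃ b, a = b + 5 := ⟨a - 5, by omega⟩
      have h6 : b < 2 ^ b := Nat.lt_two_pow_self
      have h7 : 2 ^ (b + 5 - 2) = 8 * 2 ^ b := by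
        rw [show b + 5 - 2 = b + 3 by omega, pow_add]
        ring
      omega
    omega
  constructor <;> omega

/-- a primitive prime is large -/
theorem pm_lt {n r : ℕ} (hn : 0 < n) (h : Pm n r) : n < r := by
  have h1 := prim_of_pm hn h
  have := Fact.mk h.prime
  have hr2 : ¬ r ∣ 2 := h1.not_dvd
  have h2 : r ∣ 2 ^ (r - 1) - 1 := by
    have h3 : ((2 : ℕ) : ZMod r) ≠ 0 := by
      rw [Ne, ZMod.natCast_eq_zero_iff]
      exact hr2
    have h4 := ZMod.pow_card_sub_one_eq_one h3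
    rw [← ZMod.natCast_eq_zero_iff, Nat.cast_sub Nat.one_le_two_pow, Nat.cast_pow, h4, Nat.cast_one, sub_self]
  have h3 := (h1.dvd_iff _).1 h2
  have h4 := h.prime.two_le
  have h5 := Nat.le_of_dvd (by omega) h3
  omega

theorem card_sub {G : Type*} [Group G] (A P : Subgroup G) : Nat.card (P.subgroupOf A) = Nat.card (A.subgroupOf P) := by
  have h1 : ∀ X Y : Subgroup G, Nat.card (X.subgroupOf Y) = Nat.card (X ⊓ Y : Subgroup G) := fun X Y => by
    rw [← Subgroup.subgroupOf_map_subtype, Subgroup.card_map_of_injective Y.subtype_injective]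
  rw [h1, h1, inf_comm]

/-- the reducible case -/
theorem red_case {F : Type} [Field F] [Fintype F] [CharP F 2] {f t : ℕ} (hf : 7 ≤ f) (hF : Fintype.card F = 2 ^ f) (ht : Pm (4 * f) t)
    {A C P : Subgroup (GL (Fin 3 ⊕ Fin 3) F)} (hC : C ≤ spGL 3 F) (hPs : P ≤ spGL 3 F) (hPA : P ≤ A)
    (hconj : ∀ x ∈ A, ∀ g ∈ spGL 3 F, g * x * g⁻¹ ∈ C → x = 1) (e : P ≃* chevG2.group F) (htC : t ∣ Nat.card C)
    (hK1 : 2 * f + 1 < (Nat.card C).factorization 2) (hK2 : (Nat.card C).factorization 2 < 4 * f)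
    {W : Submodule F (Fin 3 ⊕ Fin 3 → F)} (hW0 : W ≠ ⊥) (hW1 : W ≠ ⊤) (hCW : C ≤ subspaceStabilizer W) : False := by
  have hprim := prim_of_pm (by omega) ht
  have hFn : Nat.card F = 2 ^ f := by rw [Nat.card_eq_fintype_card, hF]
  have hdim : finrank F (Fin 3 ⊕ Fin 3 → F) = 6 := by
    rw [Module.finrank_fintype_fun_eq_card]
    rfl
  have H : Hyp F (Fin 3 ⊕ Fin 3 → F) t f := Hyp.of_prim hFn (by omega) hprim hdim
  obtain ⟨K, hK⟩ : ∃ K, K = C.map (gle (Fin 3 ⊕ Fin 3) F).toMonoidHom := ⟨_, rfl⟩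
  have hcK : Nat.card K = Nat.card C := by
    rw [hK]
    exact Subgroup.card_map_of_injective (gle (Fin 3 ⊕ Fin 3) F).injective
  have hiso : ∀ g ∈ K, ∀ x y, sympBilin 3 F (g x) (g y) = sympBilin 3 F x y := by
    rw [hK]
    rintro _ ⟨g, hg, rfl⟩
    exact mem_sp.1 (hC hg)
  have hKW : ∀ g ∈ K, ∀ u ∈ W, g u ∈ W := by
    rw [hK]
    rintro _ ⟨g, hg, rfl⟩ u hu
    exact ((hCW hg) u).1 hu
  obtain ⟨ρ, hρ⟩ := rho_red H (B := sympBilin 3 F) sympForm_self nd hiso (by rw [hcK]; exact htC) hKW hW0 hW1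
  obtain ⟨P', hP'⟩ : ∃ P', P' = P.map (gle (Fin 3 ⊕ Fin 3) F).toMonoidHom := ⟨_, rfl⟩
  have e' : P' ≃* chevG2.group F := (MulEquiv.subgroupCongr hP').trans
    ((P.equivMapOfInjective _ (gle (Fin 3 ⊕ Fin 3) F).injective).symm.trans e)
  have hP'iso : ∀ g ∈ P', ∀ x y, sympBilin 3 F (g x) (g y) = sympBilin 3 F x y := by
    rw [hP']
    rintro _ ⟨g, hg, rfl⟩
    exact mem_sp.1 (hPs hg)
  obtain ⟨p, hpP, hp1, g, hg, hgK⟩ := g2_even (B := sympBilin 3 F) hFn (by omega) hdim sympForm_self nd hP'iso hiso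
    (F₁ := F) hF e' hprim (by rw [hcK]; exact htC) (by rw [hcK]; exact hK1) (by rw [hcK]; exact hK2) (F₂ := F) hF ρ hρ
  rw [hP'] at hpP
  rw [hK] at hgK
  obtain ⟨p, hpP, rfl⟩ := hpP
  obtain ⟨c, hc, hcg⟩ := hgK
  apply hp1
  have h1 : p = 1 := by
    apply hconj p (hPA hpP) ((gle _ F).symm g) (mem_sp_symm hg)
    have h2 : (gle _ F).symm g * p * ((gle _ F).symm g)⁻¹ = c := by
      apply (gle _ F).injective
      rw [map_mul, map_mul, map_inv, MulEquiv.apply_symm_apply]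
      exact hcg.symm
    rw [h2]
    exact hc
  rw [h1, map_one]

/-- **(B3)** -/
theorem caseB3 (hG2 : BoxG2) (hov : Over3b) (hp : BoxO6p) (hm : BoxO6m) : CaseB3 := by
  intro F _ _ f r s t hf hF hr hs ht A C hpr hno hrA hsA htC H P hmax hAH hcore he
  classical
  have hchar : CharP F 2 := charP_two hF
  obtain ⟨⟨e0⟩, ⟨e1⟩⟩ := exists_eP (hcore.le.trans hmax.1.le) he
  obtain ⟨hcP, i, hcH, hif, hiodd⟩ := boxG2i (by omega) hF H P hmax.1.le hcore he
  have hcP0 : 0 < Nat.card P := Nat.card_pos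
  -- the index of `P` in `A`
  have hn : (P.subgroupOf H).Normal := ⟨fun x hx g => hcore.normal g g.2 x hx⟩
  have hidx : (P.subgroupOf H).index = i := by
    have h1 := Subgroup.card_mul_index (P.subgroupOf H)
    rw [Nat.card_congr (subgroupOfEquivOfLe hcore.le).toEquiv, hcH, mul_comm i] at h1
    exact Nat.eq_of_mul_eq_mul_left hcP0 h1
  obtain ⟨j, hj⟩ : ∃ j, j = P.relIndex A := ⟨_, rfl⟩
  have hji : j ∣ i := by
    rw [hj, ← hidx, ← Subgroup.relIndex_subgroupOf hAH]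
    exact Subgroup.relIndex_dvd_index_of_normal _ _
  have hcA : Nat.card (A.subgroupOf P) * j = Nat.card A := by
    have h1 := Subgroup.card_mul_index (P.subgroupOf A)
    rw [card_sub] at h1
    rw [hj]
    exact h1
  have hj0 : 0 < j := Nat.pos_of_ne_zero fun h0 => by
    rw [h0, Nat.zero_dvd] at hji
    rw [hji] at hiodd
    exact absurd hiodd (by decide)
  have hjf : j ≤ f := Nat.le_of_dvd (by omega) (hji.trans hif)
  have hdv : ∀ {n p : ℕ}, f ≤ n → Pm n p → p ∣ Nat.card A → p ∣ Nat.card (A.subgroupOf P) := by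
    intro n p hn hp hpA
    rw [← hcA] at hpA
    refine (hp.prime.dvd_mul.1 hpA).resolve_right fun h => ?_
    have h1 := Nat.le_of_dvd hj0 h
    have h2 := pm_lt (by omega) hp
    omega
  have htop := hG2 (S := P) (F := F) (by omega) hF ⟨e0⟩ hr hs (A.subgroupOf P) (hdv (by omega) hr hrA) (hdv (by omega) hs hsA)
  have hPA : P ≤ A := Subgroup.subgroupOf_eq_top.1 htop
  rw [htop, Subgroup.card_top] at hcA
  -- the order of `C`
  obtain ⟨e, hef, hcard⟩ := hpr.card
  have hodd : Odd j := hiodd.of_dvd_nat hji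
  have hsp : Nat.card (spGL 3 F) = (2 ^ f) ^ 9 * (((2 ^ f) ^ 2 - 1) * ((2 ^ f) ^ 4 - 1) * ((2 ^ f) ^ 6 - 1)) := by
    rw [H663.SP.card_spGL, Cfsg.Agent.S0245.result hF 3]
    simp only [Finset.prod_range_succ, Finset.prod_range_zero]
    norm_num
  have hcC : Nat.card C * (j * e) = (2 ^ f) ^ 3 * ((2 ^ f) ^ 4 - 1) := by
    apply Nat.eq_of_mul_eq_mul_left hcP0
    have h1 : Nat.card P * (Nat.card C * (j * e)) = Nat.card A * Nat.card C * e := by rw [← hcA]; ring
    rw [h1, hcard, hsp, hcP]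
    ring
  obtain ⟨hv1, hv2⟩ := num2 hf Nat.card_pos.ne' hcC hodd hef
  -- the maximal overgroup of `C`
  obtain ⟨M, hM, hCM⟩ := Cfsg.Agent.H905.exists_isMaximalIn_of_lt (lt_of_le_of_ne hpr.le2 hpr.ne2)
  have htM : t ∣ Nat.card M := htC.trans (Subgroup.card_dvd_of_le hCM)
  have hdim : finrank F (Fin 3 ⊕ Fin 3 → F) = 6 := by
    rw [Module.finrank_fintype_fun_eq_card]
    rfl
  rcases hov (by omega) hF ht M hM htM with ⟨v, hv, hMv⟩ | ⟨W, hW2, -, hMW⟩ | ⟨Q, hQn, hQp, hMQ⟩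
  · refine red_case hf hF ht hpr.le2 (hcore.le.trans hmax.1.le) hPA hpr.conj e1 htC (by omega) hv2
      (W := Submodule.span F {v}) ?_ ?_ (hCM.trans hMv)
    · rw [Ne, Submodule.span_singleton_eq_bot]
      exact hv
    · intro h
      have h1 := finrank_span_singleton (K := F) hv
      rw [h, finrank_top, hdim] at h1
      omega
  · refine red_case hf hF ht hpr.le2 (hcore.le.trans hmax.1.le) hPA hpr.conj e1 htC (by omega) hv2
      (W := W) ?_ ?_ (hCM.trans hMW)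
    · rintro rfl
      rw [finrank_bot] at hW2
      omega
    · rintro rfl
      rw [finrank_top, hdim] at hW2
      omega
  · by_cases hplus : IsPlusTypeOn Q ⊤
    · rcases hp (by omega) hF ht hs Q hQn hplus C (hCM.trans hMQ) htC with h1 | ⟨-, h1⟩
      · exact hno Q hQn hQp h1
      · have h2 : v2 C = (Nat.card C).factorization 2 := rfl
        omega
    · rcases (hm (by omega) hF Q hQn hplus C (hCM.trans hMQ)).1 t r ht hr htC with h1 | ⟨-, h1⟩
      · exact hno Q hQn hQp h1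
      · have h2 : v2 C = (Nat.card C).factorization 2 := rfl
        rcases h1 with h1 | ⟨h1, -⟩ <;> omega

end Cfsg.Agent.H544.Rg
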