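import Cfsg.Agent.H544.Rg.Conj3

/-!
# S3691, `Sp_6(q)`, `q` even: fixed spaces (helper544)

`fix y = C_V(y)`.

* `dvd_finrank` : `c ∣ dim U - dim C_U(y)` for an element `y` of `r`-power order, `c` the order of `q` mod `r`
* `exists_fix` : an element of `p`-power order fixes a vector of an invariant subspace, `p` the characteristic
* `two_mul_fix` : `2 dim C_W(t) ≤ dim W` if `t` inverts `y` and `y` acts freely on `W`
* `trivial_on` : elements of `p`-power order commuting with `y` are trivial on a minimal `y`-invariant subspace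
* `finrank_fix_split`.
-/

set_option autoImplicit false
set_option linter.unusedSectionVars false
set_option linter.unusedSimpArgs false

namespace Cfsg.Agent.H544.Rg

open Module

universe u v

variable {F : Type u} {V : Type v} [Field F] [AddCommGroup V] [Module F V]

/-- the fixed space -/
def fix (y : V ≃ₗ[F] V) : Submodule F V := LinearMap.ker ((y : V →ₗ[F] V) - LinearMap.id)

theorem mem_fix {y : V ≃ₗ[F] V} {v : V} : v ∈ fix y ↔ y v = v := by
  rw [fix, LinearMap.mem_ker, LinearMap.sub_apply, LinearMap.id_apply, sub_eq_zero]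
  rfl

/-- the restriction to an invariant subspace as a function -/
def rs (y : V ≃ₗ[F] V) {U : Submodule F V} (hU : ∀ u ∈ U, y u ∈ U) : Function.End U := fun u => ⟨y u, hU u u.2⟩

theorem pow_mem_of (y : V ≃ₗ[F] V) {U : Submodule F V} (hU : ∀ u ∈ U, y u ∈ U) (n : ℕ) : ∀ u ∈ U, (y ^ n) u ∈ U := by
  induction n with
  | zero => exact fun u hu => hu
  | succ n ih =>
    intro u hu
    rw [pow_succ']
    exact hU _ (ih u hu)

theorem rs_pow (y : V ≃ₗ[F] V) {U : Submodule F V} (hU : ∀ u ∈ U, y u ∈ U) (n : ℕ) (u : U) :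
    (((rs y hU) ^ n) u : V) = (y ^ n) (u : V) := by
  induction n with
  | zero => rfl
  | succ n ih =>
    rw [pow_succ', pow_succ']
    change y (((rs y hU) ^ n) u : V) = y ((y ^ n) (u : V))
    rw [ih]

theorem rs_pow_eq_one (y : V ≃ₗ[F] V) {U : Submodule F V} (hU : ∀ u ∈ U, y u ∈ U) {n : ℕ} (h : y ^ n = 1) :
    (rs y hU) ^ n = 1 := by
  funext u
  apply Subtype.ext
  rw [rs_pow, h]
  rfl

theorem card_modEq [Finite V] {p n : ℕ} (hp : p.Prime) (y : V ≃ₗ[F] V) (hy : y ^ p ^ n = 1) {U : Submodule F V}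
    (hU : ∀ u ∈ U, y u ∈ U) : Nat.card U ≡ Nat.card (U ⊓ fix y : Submodule F V) [MOD p] := by
  classical
  have := Fact.mk hp
  have := Fintype.ofFinite U
  have h1 := Equiv.Perm.card_fixedPoints_modEq (p := p) (n := n) (rs_pow_eq_one y hU hy)
  rw [Fintype.card_eq_nat_card, Fintype.card_eq_nat_card] at h1
  have h2 : Nat.card (Function.fixedPoints (rs y hU)) = Nat.card (U ⊓ fix y : Submodule F V) :=
    Nat.card_congr ⟨fun u => ⟨(u : U), (u : U).2, mem_fix.2 (congrArg Subtype.val u.2)⟩,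
      fun v => ⟨⟨v, v.2.1⟩, Subtype.ext (mem_fix.1 v.2.2)⟩, fun _ => rfl, fun _ => rfl⟩
  rw [← h2]
  exact h1

theorem dvd_finrank [Finite F] [Finite V] {r c n : ℕ} (hr : r.Prime) (hrq : ¬ r ∣ Nat.card F)
    (hc : ∀ k, r ∣ Nat.card F ^ k - 1 → c ∣ k) (y : V ≃ₗ[F] V) (hy : y ^ r ^ n = 1) {U : Submodule F V}
    (hU : ∀ u ∈ U, y u ∈ U) : c ∣ finrank F U - finrank F (U ⊓ fix y : Submodule F V) := by
  apply hc
  have h1 := card_modEq hr y hy hU
  have hle : finrank F (U ⊓ fix y : Submodule F V) ≤ finrank F U := Submodule.finrank_mono inf_le_left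
  rw [Module.natCard_eq_pow_finrank (K := F) (V := U),
    Module.natCard_eq_pow_finrank (K := F) (V := (U ⊓ fix y : Submodule F V))] at h1
  have h2 := (Nat.modEq_iff_dvd' (Nat.pow_le_pow_right Nat.card_pos hle)).1 h1.symm
  have e : Nat.card F ^ finrank F U - Nat.card F ^ finrank F (U ⊓ fix y : Submodule F V) =
      Nat.card F ^ finrank F (U ⊓ fix y : Submodule F V) *
        (Nat.card F ^ (finrank F U - finrank F (U ⊓ fix y : Submodule F V)) - 1) := by
    rw [Nat.mul_sub, mul_one, ← pow_add, Nat.add_sub_cancel' hle]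
  rw [e] at h2
  exact (hr.dvd_mul.1 h2).resolve_left fun h => hrq (hr.dvd_of_dvd_pow h)

theorem exists_fix [Finite V] {p n : ℕ} (hp : p.Prime) (hpF : p ∣ Nat.card F) [Finite F] (y : V ≃ₗ[F] V)
    (hy : y ^ p ^ n = 1) {U : Submodule F V} (hU : ∀ u ∈ U, y u ∈ U) (h0 : U ≠ ⊥) : U ⊓ fix y ≠ ⊥ := by
  intro hbot
  have h1 := card_modEq hp y hy hU
  rw [hbot, Module.natCard_eq_pow_finrank (K := F) (V := U),
    Module.natCard_eq_pow_finrank (K := F) (V := (⊥ : Submodule F V)), finrank_bot, pow_zero] at h1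
  have h2 : 0 < finrank F U := by
    rw [Module.finrank_pos_iff]
    exact (Submodule.nontrivial_iff_ne_bot).2 h0
  have h3 : p ∣ Nat.card F ^ finrank F U := dvd_pow hpF h2.ne'
  have h4 := (Nat.modEq_zero_iff_dvd.2 h3).symm.trans h1
  have h5 : (0 : ℕ) % p = 1 % p := h4
  rw [Nat.zero_mod, Nat.mod_eq_of_lt hp.one_lt] at h5
  exact zero_ne_one h5

/-- elements of `2`-power order commuting with `y` are trivial on `W` -/
theorem trivial_on [Finite F] [Finite V] {p r c n m : ℕ} (hp : p.Prime) (hpF : p ∣ Nat.card F) (hr : r.Prime)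
    (hrq : ¬ r ∣ Nat.card F) (hc : ∀ k, r ∣ Nat.card F ^ k - 1 → c ∣ k) {y s : V ≃ₗ[F] V} (hy : y ^ r ^ n = 1)
    (hs : s ^ p ^ m = 1) (hys : y * s = s * y) {W : Submodule F V} (hyW : ∀ w ∈ W, y w ∈ W) (hsW : ∀ w ∈ W, s w ∈ W)
    (hW : finrank F W = c) (hfree : W ⊓ fix y = ⊥) : W ≤ fix s := by
  rcases eq_or_ne W ⊥ with h0 | h0
  · rw [h0]
    exact bot_le
  have h1 : W ⊓ fix s ≠ ⊥ := exists_fix hp hpF s hs hsW h0
  have hinv : ∀ w ∈ W ⊓ fix s, y w ∈ W ⊓ fix s := by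
    rintro w ⟨hw1, hw2⟩
    refine ⟨hyW w hw1, mem_fix.2 ?_⟩
    have h2 : s (y w) = y (s w) := (LinearEquiv.congr_fun hys w).symm
    rw [h2, mem_fix.1 hw2]
  have h2 := dvd_finrank hr hrq hc y hy hinv
  have h3 : (W ⊓ fix s) ⊓ fix y = ⊥ := by
    rw [eq_bot_iff, ← hfree]
    exact le_inf (inf_le_left.trans inf_le_left) inf_le_right
  rw [h3, finrank_bot, Nat.sub_zero] at h2
  have h4 : 0 < finrank F (W ⊓ fix s : Submodule F V) := by
    rw [Module.finrank_pos_iff]
    exact (Submodule.nontrivial_iff_ne_bot).2 h1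
  have h5 := Nat.le_of_dvd h4 h2
  have h6 : W ⊓ fix s = W := Submodule.eq_of_le_of_finrank_le inf_le_left (by rw [hW]; exact h5)
  rw [← h6]
  exact inf_le_right

/-- `2 dim C_W(t) ≤ dim W` if `t` inverts `y` -/
theorem two_mul_fix [FiniteDimensional F V] {y t : V ≃ₗ[F] V} (hodd : ∀ v, y (y v) = v → y v = v)
    (hty : t * y * t⁻¹ = y⁻¹) {W : Submodule F V} (hyW : ∀ w ∈ W, y w ∈ W) (hfree : W ⊓ fix y = ⊥) :
    2 * finrank F (W ⊓ fix t : Submodule F V) ≤ finrank F W := by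
  have hmap : (W ⊓ fix t).map (y : V →ₗ[F] V) ≤ W := by
    rintro _ ⟨w, ⟨hw, -⟩, rfl⟩
    exact hyW w hw
  have h1 : (W ⊓ fix t) ⊓ (W ⊓ fix t).map (y : V →ₗ[F] V) = ⊥ := by
    rw [eq_bot_iff]
    rintro w ⟨⟨hw1, hw2⟩, w', ⟨hw'1, hw'2⟩, hw'⟩
    have h2 : y w' = w := hw'
    have ht : t w = w := mem_fix.1 hw2
    have ht' : t w' = w' := mem_fix.1 hw'2
    -- `y (t (y w')) = w'`
    have h3 : y (t (y w')) = t w' := by
      have h4 : t * y = y⁻¹ * t := by rw [← hty]; group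
      have h5 : t (y w') = y⁻¹ (t w') := LinearEquiv.congr_fun h4 w'
      rw [h5]
      exact y.apply_symm_apply (t w')
    rw [h2, ht, ht'] at h3
    have h6 : y (y w') = w' := by rw [h2, h3]
    have h7 := hodd w' h6
    have h8 : w' ∈ W ⊓ fix y := ⟨hw'1, mem_fix.2 h7⟩
    rw [hfree, Submodule.mem_bot] at h8
    rw [Submodule.mem_bot, ← h2, h8, map_zero]
  have h2 := Submodule.finrank_sup_add_finrank_inf_eq (W ⊓ fix t) ((W ⊓ fix t).map (y : V →ₗ[F] V))
  rw [h1, finrank_bot, add_zero] at h2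
  have h3 : finrank F ((W ⊓ fix t).map (y : V →ₗ[F] V)) = finrank F (W ⊓ fix t : Submodule F V) :=
    LinearEquiv.finrank_map_eq y _
  have h4 : finrank F (W ⊓ fix t ⊔ (W ⊓ fix t).map (y : V →ₗ[F] V) : Submodule F V) ≤ finrank F W :=
    Submodule.finrank_mono (sup_le inf_le_left hmap)
  omega

/-- `y ^ 2` has the same fixed points as `y`, of odd order -/
theorem fix_of_sq {y : V ≃ₗ[F] V} {n : ℕ} (hn : n % 2 = 1) (hy : y ^ n = 1) (v : V) (h : y (y v) = v) : y v = v := by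
  have h1 : ∀ k : ℕ, (y ^ (2 * k)) v = v := by
    intro k
    induction k with
    | zero => rfl
    | succ k ih =>
      rw [Nat.mul_succ, pow_add]
      change (y ^ (2 * k)) ((y ^ 2) v) = v
      rw [pow_two]
      change (y ^ (2 * k)) (y (y v)) = v
      rw [h, ih]
  have h2 : (y ^ (n / 2 * 2 + 1)) v = v := by
    have : n / 2 * 2 + 1 = n := by omega
    rw [this, hy]
    rfl
  rw [pow_succ', mul_comm (n / 2) 2] at h2
  have h3 : y ((y ^ (2 * (n / 2))) v) = v := h2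
  rwa [h1] at h3

/-- splitting of fixed spaces -/
theorem finrank_fix_split [FiniteDimensional F V] {x : V ≃ₗ[F] V} {U W : Submodule F V} (h : IsCompl U W)
    (hU : ∀ u ∈ U, x u ∈ U) (hW : ∀ u ∈ W, x u ∈ W) :
    finrank F (fix x) = finrank F (U ⊓ fix x : Submodule F V) + finrank F (W ⊓ fix x : Submodule F V) := by
  have h1 := Submodule.finrank_sup_add_finrank_inf_eq (U ⊓ fix x) (W ⊓ fix x)
  have h2 : (U ⊓ fix x) ⊓ (W ⊓ fix x) = ⊥ := by
    rw [eq_bot_iff, ← h.inf_eq_bot]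
    exact le_inf (inf_le_left.trans inf_le_left) (inf_le_right.trans inf_le_left)
  have h3 : U ⊓ fix x ⊔ W ⊓ fix x = fix x := by
    apply le_antisymm (sup_le inf_le_right inf_le_right)
    intro v hv
    have hv1 : v ∈ U ⊔ W := by rw [h.sup_eq_top]; trivial
    obtain ⟨u, hu, w, hw, rfl⟩ := Submodule.mem_sup.1 hv1
    have h4 : x u + x w = u + w := by rw [← map_add]; exact mem_fix.1 hv
    have h5 : x u - u = w - x w := by rw [sub_eq_sub_iff_add_eq_add, h4, add_comm]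
    have h6 : x u - u ∈ U ⊓ W := ⟨U.sub_mem (hU u hu) hu, by rw [h5]; exact W.sub_mem hw (hW w hw)⟩
    rw [h.inf_eq_bot, Submodule.mem_bot] at h6
    have h7 : w - x w = 0 := by rw [← h5, h6]
    exact Submodule.add_mem_sup ⟨hu, mem_fix.2 (sub_eq_zero.1 h6)⟩ ⟨hw, mem_fix.2 (sub_eq_zero.1 h7).symm⟩
  rw [h2, h3, finrank_bot, add_zero] at h1
  exact h1

end Cfsg.Agent.H544.Rg
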