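import Cfsg.Agent.H544.Rg.Three
import Cfsg.Agent.H544.Rg.Bound
import Cfsg.Agent.H997.Rg.Lin
import Cfsg.Agent.S0245

/-!
# S3691, `Sp_6(q)`, `q` even, one factor contains `G₂(q)` (helper544)

* `Hyp.cyc` : the Sylow `r`-subgroups are cyclic
* `g2_even` : `P ≅ G₂(q)` and `K`, of order divisible by `r`, with `2 q² < |K|_2 < q⁴` and acting on a four-dimensional
  symplectic section, contain conjugate involutions.
-/

set_option autoImplicit false
set_option linter.unusedSectionVars false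

namespace Cfsg.Agent.H544.Rg

open Module Subgroup Cfsg Cfsg.Lie Cfsg.Agent.H436 Cfsg.Agent.H876 Cfsg.Agent.ClassicalGeometry.SympBasic
open scoped MatrixGroups Matrix

universe u v w

variable {F : Type u} {V : Type v} [Field F] [AddCommGroup V] [Module F V]

namespace Hyp

variable [Finite F] [CharP F 2] [Finite V] {r a : ℕ} (H : Hyp F V r a)

include H

/-- the Sylow `r`-subgroups are cyclic -/
theorem cyc {K : Subgroup (V ≃ₗ[F] V)} (P : Sylow r K) : IsCyclic P := by
  have hfin : Finite (V ≃ₗ[F] V) := Finite.of_injective (fun e : V ≃ₗ[F] V => (e : V → V)) DFunLike.coe_injective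
  have := Fact.mk H.prime
  by_cases hP : Nontrivial P
  swap
  · have : Subsingleton P := not_nontrivial_iff_subsingleton.1 hP
    infer_instance
  have hc : Nontrivial (center P) := P.2.center_nontrivial
  obtain ⟨z, hz⟩ : ∃ z : center P, orderOf z = r := by
    have h1 : IsPGroup r (center P) := P.2.to_subgroup _
    obtain ⟨k, hk⟩ := IsPGroup.iff_card.1 h1
    apply exists_prime_orderOf_dvd_card' r
    rw [hk]
    refine dvd_pow_self r ?_
    rintro rfl
    rw [pow_zero] at hk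
    exact absurd (Finite.one_lt_card (α := center P)) (by omega)
  obtain ⟨y, hy⟩ : ∃ y : V ≃ₗ[F] V, y = (((z : P) : K) : V ≃ₗ[F] V) := ⟨_, rfl⟩
  have hyo : orderOf y = r := by
    rw [hy, Subgroup.orderOf_coe, Subgroup.orderOf_coe, Subgroup.orderOf_coe]; exact hz
  have hcomm : ∀ x : P, ((x : K) : V ≃ₗ[F] V) * y * ((x : K) : V ≃ₗ[F] V)⁻¹ = y := by
    intro x
    rw [mul_inv_eq_iff_eq_mul, hy]
    have := mem_center_iff.1 z.2 x
    exact congrArg (fun u : P => ((u : K) : V ≃ₗ[F] V)) this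
  have hW : ∀ (x : P), ∀ w ∈ com y, ((x : K) : V ≃ₗ[F] V) w ∈ com y := fun x w hw =>
    com_inv (n := 1) (by rw [hcomm, pow_one]) hw
  have hU : ∀ (x : P), ∀ w ∈ fix y, ((x : K) : V ≃ₗ[F] V) w ∈ fix y := fun x w hw =>
    fix_inv (n := 1) (by
      have h1 : ((x : K) : V ≃ₗ[F] V) * y = y * ((x : K) : V ≃ₗ[F] V) := mul_inv_eq_iff_eq_mul.1 (hcomm x)
      rw [pow_one, mul_assoc, ← h1]
      group) hw
  let ρ : P →* Module.End F (com y) :=
    { toFun := fun x => (((x : K) : V ≃ₗ[F] V) : V →ₗ[F] V).restrict (hW x)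
      map_one' := by
        ext w
        rfl
      map_mul' := fun x x' => by
        ext w
        rfl }
  have hnt : Nontrivial (com y) := by
    apply Module.nontrivial_of_finrank_pos (R := F)
    rw [H.com_four hyo]
    norm_num
  have hfpf : H997.Rg.Fpf 2 ρ := by
    intro g hg hg2 w hw
    have hgr : orderOf ((g : K) : V ≃ₗ[F] V) = r := by
      rw [Subgroup.orderOf_coe, Subgroup.orderOf_coe]
      obtain ⟨k, hk⟩ := (IsPGroup.iff_orderOf.1 P.isPGroup') g
      have h1 : orderOf g ∣ r := hg.dvd_of_dvd_pow (dvd_of_eq hk)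
      exact (Nat.prime_dvd_prime_iff_eq hg H.prime).1 h1
    have h2 := H.fix_two hgr
    have h3 := dvd_finrank H.prime H.ndvd H.four ((g : K) : V ≃ₗ[F] V) (n := 1)
      (by rw [pow_one]; exact H.pow_eq hgr) (U := fix y) (hU g)
    rw [H.fix_two hyo] at h3
    have h4 : finrank F (fix y ⊓ fix ((g : K) : V ≃ₗ[F] V) : Submodule F V) ≤ 2 := by
      rw [← H.fix_two hyo]
      exact Submodule.finrank_mono inf_le_left
    have h5 : finrank F (fix y ⊓ fix ((g : K) : V ≃ₗ[F] V) : Submodule F V) = 2 := by omega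
    have h6 : fix y ⊓ fix ((g : K) : V ≃ₗ[F] V) = fix y :=
      Submodule.eq_of_le_of_finrank_eq inf_le_left (by rw [h5, H.fix_two hyo])
    have h7 : fix y ⊓ fix ((g : K) : V ≃ₗ[F] V) = fix ((g : K) : V ≃ₗ[F] V) :=
      Submodule.eq_of_le_of_finrank_eq inf_le_right (by rw [h5, h2])
    have h8 : (w : V) ∈ fix ((g : K) : V ≃ₗ[F] V) := mem_fix.2 (congrArg Subtype.val hw)
    rw [← h7, h6] at h8
    have h9 : (w : V) ∈ com y ⊓ fix y := ⟨w.2, h8⟩
    rw [com_inf_fix H.cast_ne (H.pow_eq hyo), Submodule.mem_bot] at h9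
    exact Subtype.ext h9
  obtain ⟨S⟩ : Nonempty (Sylow r P) := inferInstance
  have h1 := hfpf.cyc Nat.prime_two H.prime H.ne_two H.ne_two S
  have h2 : (S : Subgroup P) = ⊤ := (S.is_maximal' (P.isPGroup'.to_subgroup ⊤) le_top).symm
  rw [h2] at h1
  exact isCyclic_of_surjective (⊤ : Subgroup P).subtype (fun x => ⟨⟨x, mem_top x⟩, rfl⟩)

end Hyp

/-- the order of `Sp_4(q)` -/
theorem fac_sp {F' : Type} [Field F'] [Fintype F'] {a : ℕ} (hF : Fintype.card F' = 2 ^ a) :
    2 ^ (4 * a) ∣ Nat.card (Matrix.symplecticGroup (Fin 2) F') := by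
  have h1 := S0245.result (F := F') rfl 2
  rw [h1, hF]
  refine Dvd.dvd.mul_right (dvd_of_eq ?_) _
  rw [← pow_mul]
  congr 1
  ring

/-- **an involution of rank three in `K`, from an action on a four-dimensional section** -/
theorem Hyp.exists_x_rho [Finite F] [CharP F 2] [Finite V] {r a : ℕ} (H : Hyp F V r a) (ha : 2 ≤ a)
    (hr : Prim 2 (4 * a) r) {K : Subgroup (V ≃ₗ[F] V)} (hrK : r ∣ Nat.card K)
    (hK1 : 2 * a + 1 < (Nat.card K).factorization 2) (hK2 : (Nat.card K).factorization 2 < 4 * a)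
    {F₂ : Type} [Field F₂] [Fintype F₂] (hF₂ : Fintype.card F₂ = 2 ^ a)
    (ρ : K →* Matrix.symplecticGroup (Fin 2) F₂) (hρ : ¬ r ∣ Nat.card ρ.ker) :
    ∃ x ∈ K, x * x = 1 ∧ finrank F (fix x) = 3 := by
  have hfin : Finite (V ≃ₗ[F] V) := Finite.of_injective (fun e : V ≃ₗ[F] V => (e : V → V)) DFunLike.coe_injective
  have := Fact.mk H.prime
  have := Fact.mk Nat.prime_two
  have hA : ∀ y ∈ K, orderOf y = r → ∃ b ∈ K, y * b * y⁻¹ = b ∧ b ≠ 1 ∧ b * b = 1 := by
    intro y hy hyo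
    by_contra hcon
    push Not at hcon
    have hyo' : orderOf (⟨y, hy⟩ : K) = r := by rw [Subgroup.orderOf_mk, hyo]
    obtain ⟨S, hSM, hcS, hyS⟩ := exists_norm H.prime ρ.ker inferInstance hρ hyo'
    have hSp : IsPGroup 2 S := IsPGroup.of_card hcS
    have hMK : (Nat.card ρ.ker).factorization 2 ≤ (Nat.card K).factorization 2 :=
      (Nat.factorization_le_iff_dvd Nat.card_pos.ne' Nat.card_pos.ne').2 (Subgroup.card_subgroup_dvd_card _) 2
    have hlt : Nat.card S < 2 ^ (4 * a) := by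
      rw [hcS]
      exact Nat.pow_lt_pow_right (by norm_num) (by omega)
    have hcent := cent_of_lt H.prime H.ne_two H.two hSp hlt hyS (by rw [← hyo']; exact pow_orderOf_eq_one _)
    have hS1 : (Nat.card ρ.ker).factorization 2 = 0 := by
      by_contra h0
      have h2 : 2 ∣ Nat.card S := by
        rw [hcS]
        exact dvd_pow_self 2 h0
      obtain ⟨b, hb⟩ := exists_prime_orderOf_dvd_card' 2 h2
      have hb' : orderOf ((b : K) : V ≃ₗ[F] V) = 2 := by rw [Subgroup.orderOf_coe, Subgroup.orderOf_coe, hb]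
      refine hcon ((b : K) : V ≃ₗ[F] V) (b : K).2 (congrArg Subtype.val (hcent b b.2)) ?_ ?_
      · intro h1
        rw [h1, orderOf_one] at hb'
        norm_num at hb'
      · rw [← pow_two, ← hb']
        exact pow_orderOf_eq_one _
    -- the image
    have hcard : Nat.card ρ.ker * Nat.card ρ.range = Nat.card K := by
      have h1 := Subgroup.card_mul_index ρ.ker
      rwa [Subgroup.index_ker] at h1
    have hfac : (Nat.card ρ.range).factorization 2 = (Nat.card K).factorization 2 := by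
      rw [← hcard, Nat.factorization_mul Nat.card_pos.ne' Nat.card_pos.ne', Finsupp.add_apply, hS1, zero_add]
    have hrr : r ∣ Nat.card ρ.range := by
      rw [← hcard] at hrK
      exact (H.prime.dvd_mul.1 hrK).resolve_left hρ
    have hcR : Nat.card (ρ.range.map (spToGL 2 F₂)) = Nat.card ρ.range :=
      Subgroup.card_map_of_injective Cfsg.Agent.H262.El.spToGL_injective
    have hall : ∀ A, spToGL 2 F₂ A ∈ spGL 2 F₂ := fun A a b => mem_symplecticGroup_iff.1 A.2 a b
    have hle : ρ.range.map (spToGL 2 F₂) ≤ spGL 2 F₂ := by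
      rintro _ ⟨A, -, rfl⟩
      exact hall A
    have hne : ρ.range.map (spToGL 2 F₂) ≠ spGL 2 F₂ := by
      intro heq
      have h1 : Nat.card (Matrix.symplecticGroup (Fin 2) F₂) ∣ Nat.card (spGL 2 F₂) := by
        have h2 : (⊤ : Subgroup (Matrix.symplecticGroup (Fin 2) F₂)).map (spToGL 2 F₂) ≤ spGL 2 F₂ := by
          rintro _ ⟨A, -, rfl⟩
          exact hall A
        have h3 := Subgroup.card_dvd_of_le h2
        rwa [Subgroup.card_map_of_injective Cfsg.Agent.H262.El.spToGL_injective, Subgroup.card_top] at h3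
      rw [← heq, hcR] at h1
      have h4 : 2 ^ (4 * a) ∣ Nat.card K := by
        rw [← hcard]
        exact ((fac_sp hF₂).trans h1).trans (dvd_mul_left _ _)
      have h5 := (Nat.Prime.pow_dvd_iff_le_factorization Nat.prime_two Nat.card_pos.ne').1 h4
      omega
    have := two_part hF₂ ha hr hle hne (by rw [hcR]; exact hrr)
    rw [hcR, hfac] at this
    omega
  exact H.exists_x (K := K) (by
      rw [H.card]
      exact Nat.pow_lt_pow_right (by norm_num) (by omega))
    (Nat.pow_lt_pow_right (by norm_num) hK2) hrK (fun P => H.cyc P) hA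

/-- **`G₂(q)` and `K` contain conjugate involutions.** -/
theorem g2_even [Finite F] [Finite V] {a : ℕ} (hF : Nat.card F = 2 ^ a) (ha : 2 ≤ a) (hV : finrank F V = 6)
    {B : LinearMap.BilinForm F V} (halt : ∀ x, B x x = 0) (hnd : ∀ x, (∀ y, B x y = 0) → x = 0)
    {P K : Subgroup (V ≃ₗ[F] V)} (hP : ∀ g ∈ P, ∀ x y, B (g x) (g y) = B x y)
    (hK : ∀ g ∈ K, ∀ x y, B (g x) (g y) = B x y)
    {F₁ : Type w} [Field F₁] [Fintype F₁] (hF₁ : Fintype.card F₁ = 2 ^ a) (e : P ≃* chevG2.group F₁)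
    {r : ℕ} (hr : Prim 2 (4 * a) r) (hrK : r ∣ Nat.card K)
    (hK1 : 2 * a + 1 < (Nat.card K).factorization 2) (hK2 : (Nat.card K).factorization 2 < 4 * a)
    {F₂ : Type} [Field F₂] [Fintype F₂] (hF₂ : Fintype.card F₂ = 2 ^ a)
    (ρ : K →* Matrix.symplecticGroup (Fin 2) F₂) (hρ : ¬ r ∣ Nat.card ρ.ker) :
    ∃ p ∈ P, p ≠ 1 ∧ ∃ g : V ≃ₗ[F] V, (∀ x y, B (g x) (g y) = B x y) ∧ g * p * g⁻¹ ∈ K := by
  have hchar : CharP F 2 := by
    have := Fintype.ofFinite F
    exact charP_two (a := a) (by rw [← Nat.card_eq_fintype_card, hF])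
  have H : Hyp F V r a := Hyp.of_prim hF (by omega) hr hV
  have h2a : 2 ≤ 2 ^ a := by
    calc 2 = 2 ^ 1 := (pow_one 2).symm
      _ ≤ _ := Nat.pow_le_pow_right (by norm_num) (by omega)
  obtain ⟨t, htP, htt, ht3⟩ := exists_t (F := F) (V := V) hV (by rw [hF]; exact h2a) (by rw [hF₁, hF]) P e
  obtain ⟨x, hxK, hxx, hx3⟩ := H.exists_x_rho ha hr hrK hK1 hK2 hF₂ ρ hρ
  obtain ⟨g, hg, hgx⟩ := conj_fix halt hnd hV (hP t htP) (hK x hxK) htt hxx ht3 hx3
  refine ⟨t, htP, ?_, g, hg, by rw [hgx]; exact hxK⟩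
  rintro rfl
  have h1 : fix (1 : V ≃ₗ[F] V) = ⊤ := by
    rw [eq_top_iff]
    intro v _
    exact mem_fix.2 rfl
  rw [h1, finrank_top, hV] at ht3
  omega

end Cfsg.Agent.H544.Rg
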