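import Cfsg.Agent.H544.Rg.Grp

/-!
# S3691, `Sp_6(q)`, `q` even: the normaliser of `G₂(q)` (helper544)

* `pow_card_two` : `g y g⁻¹ = y ^ k`, `y ∈ GL(V)` of prime order `r`, `dim V < 3 c`, `c` the order of `q` mod `r`: `k ^ (2 c) = 1` mod `r`
* `card_le_two` : a `2`-group normalising `⟨y⟩`, none of its involutions commuting with `y`, has order at most two
* `odd_index` : Frattini
-/

set_option autoImplicit false
set_option linter.unusedSectionVars false

namespace Cfsg.Agent.H544.Rg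

open Module Polynomial Subgroup

section lin

variable {F V : Type*} [Field F] [AddCommGroup V] [Module F V]

theorem pow_card_two [Finite F] [FiniteDimensional F V] {r c : ℕ} [hr : Fact r.Prime] (hrF : (r : F) ≠ 0)
    (hc : orderOf (Nat.card F : ZMod r) = c) (hd : finrank F V < 3 * c) {y g : V ≃ₗ[F] V} (hy : y ^ r = 1)
    (hy1 : y ≠ 1) {k : ℕ} (hg : g * y * g⁻¹ = y ^ k) : (k : ZMod r) ^ (2 * c) = 1 := by
  classical
  have := Fintype.ofFinite F
  rw [Nat.card_eq_fintype_card] at hc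
  set Y : Module.End F V := (y : V →ₗ[F] V) with hY
  have hYp : ∀ n : ℕ, Y ^ n = ((y ^ n : V ≃ₗ[F] V) : V →ₗ[F] V) := by
    intro n
    induction n with
    | zero => rfl
    | succ n ih =>
      rw [pow_succ, pow_succ, ih]
      rfl
  set P := minpoly F Y with hP
  have hint : IsIntegral F Y := Algebra.IsIntegral.isIntegral Y
  have hP0 : P ≠ 0 := minpoly.ne_zero hint
  have hdeg : P.natDegree ≤ finrank F V := by
    have h1 : P ∣ Y.charpoly := LinearMap.minpoly_dvd_charpoly Y
    have h2 := Polynomial.natDegree_le_of_dvd h1 (LinearMap.charpoly_monic Y).ne_zero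
    rwa [LinearMap.charpoly_natDegree] at h2
  let C := AlgebraicClosure F
  -- a common root of `P` and `1 + X + ... + X ^ (r - 1)`
  set Φ : F[X] := ∑ i ∈ Finset.range r, X ^ i with hΦ
  have hdvd : P ∣ (X - 1) * Φ := by
    apply minpoly.dvd
    rw [mul_geom_sum, map_sub, map_pow, map_one, aeval_X, hYp, hy]
    exact sub_self _
  obtain ⟨l, hl1, hl2⟩ : ∃ l : C, aeval l P = 0 ∧ aeval l Φ = 0 := by
    by_contra hcon
    push Not at hcon
    have h1 : IsCoprime P Φ := by
      rw [Polynomial.isCoprime_iff_aeval_ne_zero_of_isAlgClosed F C]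
      intro a
      by_cases ha : aeval a P = 0
      · exact Or.inr (hcon a ha)
      · exact Or.inl ha
    have h2 : P ∣ X - 1 := h1.dvd_of_dvd_mul_right hdvd
    obtain ⟨Q, hQ⟩ := h2
    have h3 := congrArg (aeval Y) hQ
    rw [map_mul, hP, minpoly.aeval, zero_mul, map_sub, map_one, aeval_X, sub_eq_zero] at h3
    apply hy1
    ext v
    exact LinearMap.congr_fun h3 v
  have hlr : l ^ r = 1 := by
    have h1 := congrArg (aeval l) (mul_geom_sum (X : F[X]) r)
    rw [map_mul, ← hΦ, hl2, mul_zero, map_sub, map_pow, map_one, aeval_X] at h1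
    exact (sub_eq_zero.1 h1.symm)
  have hl : l ≠ 1 := by
    rintro rfl
    rw [hΦ, map_sum] at hl2
    simp only [map_pow, aeval_X, one_pow, Finset.sum_const, Finset.card_range, nsmul_eq_mul, mul_one] at hl2
    apply hrF
    have h3 : algebraMap F C (r : F) = 0 := by rw [map_natCast]; exact hl2
    exact (map_eq_zero _).1 h3
  have hlo : orderOf l = r := orderOf_eq_prime hlr hl
  -- the exponents of the roots
  have hq : ∀ a : ℕ, aeval (l ^ a) P = 0 → aeval (l ^ (a * Fintype.card F)) P = 0 := by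
    intro a ha
    rw [pow_mul]
    have h1 : aeval (l ^ a) (expand F (Fintype.card F) P) = 0 := by
      rw [FiniteField.expand_card, map_pow, ha, zero_pow Fintype.card_ne_zero]
    rwa [expand_aeval] at h1
  have hk : ∀ a : ℕ, aeval (l ^ a) P = 0 → aeval (l ^ (a * k)) P = 0 := by
    intro a ha
    have h1 : P ∣ P.comp (X ^ k) := by
      apply minpoly.dvd
      rw [aeval_comp, map_pow, aeval_X]
      have h2 : (g : V →ₗ[F] V) * Y = Y ^ k * (g : V →ₗ[F] V) := by
        rw [hYp, ← hg]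
        ext v
        change g (y v) = g (y (g⁻¹ (g v)))
        congr 2
        exact (g.symm_apply_apply v).symm
      have h3 := aeval_conj h2 P
      rw [hP, minpoly.aeval, mul_zero] at h3
      have h4 : aeval (Y ^ k) P * (g : Module.End F V) * (g⁻¹ : V ≃ₗ[F] V) = 0 := by
        rw [hP, ← h3, zero_mul]
      rw [mul_assoc] at h4
      have h5 : (g : Module.End F V) * ((g⁻¹ : V ≃ₗ[F] V) : Module.End F V) = 1 := by
        ext v
        exact g.apply_symm_apply v
      rwa [h5, mul_one] at h4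
    obtain ⟨Q, hQ⟩ := h1
    have h6 := congrArg (aeval (l ^ a)) hQ
    rw [map_mul, ha, zero_mul, aeval_comp, map_pow, aeval_X, ← pow_mul] at h6
    exact h6
  have hqi : ∀ (a i : ℕ), aeval (l ^ a) P = 0 → aeval (l ^ (a * Fintype.card F ^ i)) P = 0 := by
    intro a i ha
    induction i with
    | zero => rwa [pow_zero, mul_one]
    | succ i ih =>
      rw [pow_succ, ← mul_assoc]
      exact hq _ ih
  have hinj : ∀ a b : ℕ, l ^ a = l ^ b ↔ (a : ZMod r) = b := by
    intro a b
    have hl0 : l ≠ 0 := by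
      rintro h0
      rw [h0, zero_pow hr.out.ne_zero] at hlr
      exact zero_ne_one hlr
    have hL : orderOf (Units.mk0 l hl0) = r := by rw [← orderOf_units, Units.val_mk0, hlo]
    have h1 := pow_inj_mod (x := Units.mk0 l hl0) (n := a) (m := b)
    rw [hL, Units.ext_iff, Units.val_pow_eq_pow_val, Units.val_pow_eq_pow_val, Units.val_mk0] at h1
    rw [h1, ZMod.natCast_eq_natCast_iff']
  by_contra hne
  -- too many roots
  let S : ℕ → Finset C := fun b => (Finset.range c).image fun i => l ^ (b * Fintype.card F ^ i)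
  have hqinj : ∀ i < c, ∀ j < c, (Fintype.card F : ZMod r) ^ i = (Fintype.card F : ZMod r) ^ j → i = j := by
    intro i hi j hj hij
    rw [← hc] at hi hj
    exact pow_injOn_Iio_orderOf hi hj hij
  have hkc : (k : ZMod r) ≠ 0 := by
    intro h0
    have h1 : y ^ k = 1 := by
      rw [← orderOf_dvd_iff_pow_eq_one, orderOf_eq_prime hy hy1]
      exact (ZMod.natCast_eq_zero_iff _ _).1 h0
    rw [h1] at hg
    apply hy1
    rw [mul_inv_eq_one] at hg
    exact mul_left_cancel (hg.trans (mul_one g).symm)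
  have hS : ∀ b : ℕ, (b : ZMod r) ≠ 0 → (S b).card = c := by
    intro b hb
    rw [Finset.card_image_of_injOn, Finset.card_range]
    intro i hi j hj hij
    rw [Finset.coe_range, Set.mem_Iio] at hi hj
    simp only at hij
    rw [hinj, Nat.cast_mul, Nat.cast_mul, Nat.cast_pow, Nat.cast_pow] at hij
    exact hqinj i hi j hj (mul_left_cancel₀ hb hij)
  have hdis : ∀ b b' : ℕ, (b : ZMod r) ^ c ≠ (b' : ZMod r) ^ c → Disjoint (S b) (S b') := by
    intro b b' hbb
    rw [Finset.disjoint_left]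
    intro a ha ha'
    obtain ⟨i, -, rfl⟩ := Finset.mem_image.1 ha
    obtain ⟨j, -, hj⟩ := Finset.mem_image.1 ha'
    rw [hinj, Nat.cast_mul, Nat.cast_mul, Nat.cast_pow, Nat.cast_pow] at hj
    apply hbb
    have h1 := congrArg (fun x => x ^ c) hj
    beta_reduce at h1
    rw [mul_pow, mul_pow, ← pow_mul, ← pow_mul, mul_comm j c, mul_comm i c, pow_mul, pow_mul (_ : ZMod r) c i] at h1
    have hq1 : (Fintype.card F : ZMod r) ^ c = 1 := by rw [← hc]; exact pow_orderOf_eq_one _
    rw [hq1, one_pow, one_pow, mul_one, mul_one] at h1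
    exact h1.symm
  have hroot : ∀ b : ℕ, aeval (l ^ b) P = 0 → S b ⊆ (P.aroots C).toFinset := by
    intro b hb a ha
    rw [Multiset.mem_toFinset, Polynomial.mem_aroots]
    refine ⟨hP0, ?_⟩
    obtain ⟨i, -, rfl⟩ := Finset.mem_image.1 ha
    exact hqi b i hb
  have hk1 : aeval (l ^ k) P = 0 := by
    have := hk 1 (by rwa [pow_one])
    rwa [one_mul] at this
  have hk2 : aeval (l ^ (k * k)) P = 0 := hk k hk1
  have n1 : ((1 : ℕ) : ZMod r) ^ c ≠ (k : ZMod r) ^ c := by
    intro h
    apply hne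
    rw [mul_comm, pow_mul, ← h, Nat.cast_one, one_pow, one_pow]
  have n2 : ((1 : ℕ) : ZMod r) ^ c ≠ ((k * k : ℕ) : ZMod r) ^ c := by
    intro h
    apply hne
    rw [Nat.cast_one, one_pow, Nat.cast_mul, ← pow_two, ← pow_mul] at h
    exact h.symm
  have n3 : (k : ZMod r) ^ c ≠ ((k * k : ℕ) : ZMod r) ^ c := by
    intro h
    apply n1
    rw [Nat.cast_mul, mul_pow] at h
    have h0 : (k : ZMod r) ^ c ≠ 0 := pow_ne_zero _ hkc
    rw [Nat.cast_one, one_pow]
    exact (mul_left_cancel₀ h0 ((mul_one _).trans h))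
  have hsub : (S 1 ∪ S k) ∪ S (k * k) ⊆ (P.aroots C).toFinset :=
    Finset.union_subset (Finset.union_subset (hroot 1 (by rwa [pow_one])) (hroot k hk1)) (hroot (k * k) hk2)
  have h1 := Finset.card_le_card hsub
  rw [Finset.card_union_of_disjoint (Finset.disjoint_union_left.2 ⟨hdis _ _ n2, hdis _ _ n3⟩),
    Finset.card_union_of_disjoint (hdis _ _ n1), hS 1 (by rw [Nat.cast_one]; exact one_ne_zero), hS k hkc,
    hS (k * k) (by rw [Nat.cast_mul]; exact mul_ne_zero hkc hkc)] at h1
  have h2 := Multiset.toFinset_card_le (P.aroots C)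
  have h3 : Multiset.card (P.aroots C) ≤ P.natDegree := by
    refine (Polynomial.card_roots' _).trans ?_
    exact Polynomial.natDegree_map_le
  omega

end lin

section grp

variable {K : Type*} [Group K] [Finite K]

/-- a `2`-group normalising `⟨y⟩` -/
theorem card_le_two {r : ℕ} [hr : Fact r.Prime] {y : K} (hy : orderOf y = r)
    (hk : ∀ g : K, ∀ k : ℕ, g * y * g⁻¹ = y ^ k → (k : ZMod r) ^ 6 = 1)
    (hc : ∀ z : K, z * z = 1 → z * y * z⁻¹ = y → z = 1) {S : Subgroup K} (hS : IsPGroup 2 S)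
    (hn : ∀ s ∈ S, s * y * s⁻¹ ∈ zpowers y) : Nat.card S ≤ 2 := by
  -- a `2`-element commuting with `y` is trivial
  have hc' : ∀ s ∈ S, s * y * s⁻¹ = y → s = 1 := by
    intro s hs hsy
    by_contra hne
    obtain ⟨n, hn⟩ := hS ⟨s, hs⟩
    have hn' : s ^ 2 ^ n = 1 := congrArg Subtype.val hn
    have hex : ∃ n, s ^ 2 ^ n = 1 := ⟨n, hn'⟩
    classical
    obtain ⟨m, hm⟩ : ∃ m, m = Nat.find hex := ⟨_, rfl⟩
    have hm1 : s ^ 2 ^ m = 1 := by rw [hm]; exact Nat.find_spec hex
    rcases m with _ | m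
    · rw [pow_zero, pow_one] at hm1
      exact hne hm1
    · have h1 : s ^ 2 ^ m ≠ 1 := by
        intro h
        have := Nat.find_min' hex h
        omega
      apply h1
      apply hc
      · rw [← pow_add, ← two_mul, ← pow_succ']
        exact hm1
      · have h0 : s * y * s⁻¹ = y ^ 1 := by rw [pow_one]; exact hsy
        have h2 := conj_pow_pow h0 (2 ^ m)
        rw [one_pow, pow_one] at h2
        exact h2
  have hinv : ∀ s ∈ S, s ≠ 1 → s * y * s⁻¹ = y⁻¹ := by
    intro s hs hne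
    obtain ⟨k, hk'⟩ : ∃ k : ℕ, s * y * s⁻¹ = y ^ k := by
      obtain ⟨k, hk⟩ := mem_zpowers_iff.1 (hn s hs)
      have h1 : s * y * s⁻¹ ∈ Submonoid.powers y := by
        rw [mem_powers_iff_mem_zpowers]
        exact ⟨k, hk⟩
      obtain ⟨k, hk⟩ := h1
      exact ⟨k, hk.symm⟩
    have h6 := hk s k hk'
    obtain ⟨n, hn⟩ := hS ⟨s, hs⟩
    have hn' : s ^ 2 ^ n = 1 := congrArg Subtype.val hn
    have h2 : (k : ZMod r) ^ 2 ^ n = 1 := by
      have h3 := conj_pow_pow hk' (2 ^ n)
      rw [hn', one_mul, inv_one, mul_one] at h3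
      have h4 : y ^ 1 = y ^ k ^ 2 ^ n := by rw [pow_one]; exact h3
      rw [pow_inj_mod, hy] at h4
      have h5 := (ZMod.natCast_eq_natCast_iff' _ _ _).2 h4
      rw [Nat.cast_one, Nat.cast_pow] at h5
      exact h5.symm
    have h7 : (k : ZMod r) ^ 2 = 1 := by
      rw [← orderOf_dvd_iff_pow_eq_one] at h6 h2 ⊢
      have h8 : orderOf (k : ZMod r) ∣ Nat.gcd 6 (2 ^ n) := Nat.dvd_gcd h6 h2
      refine h8.trans ?_
      have h9 : Nat.gcd 6 (2 ^ n) = Nat.gcd 2 (2 ^ n) := by
        have : Nat.Coprime 3 (2 ^ n) := Nat.Coprime.pow_right n (by norm_num)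
        rw [show 6 = 3 * 2 by norm_num, Nat.Coprime.gcd_mul_left_cancel 2 this]
      rw [h9]
      exact Nat.gcd_dvd_left _ _
    have h10 : ((k : ZMod r) - 1) * ((k : ZMod r) + 1) = 0 := by
      have : ((k : ZMod r) - 1) * ((k : ZMod r) + 1) = (k : ZMod r) ^ 2 - 1 := by ring
      rw [this, h7, sub_self]
    rcases mul_eq_zero.1 h10 with h11 | h11
    · exfalso
      apply hne
      apply hc' s hs
      rw [hk']
      have h12 : y ^ k = y ^ 1 := by
        rw [pow_inj_mod, hy, ← ZMod.natCast_eq_natCast_iff', Nat.cast_one]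
        exact sub_eq_zero.1 h11
      rw [h12, pow_one]
    · rw [hk', eq_inv_iff_mul_eq_one, ← pow_succ, ← orderOf_dvd_iff_pow_eq_one, hy, ← ZMod.natCast_eq_zero_iff,
        Nat.cast_add, Nat.cast_one]
      exact h11
  by_contra hcon
  push Not at hcon
  classical
  have := Fintype.ofFinite S
  rw [Nat.card_eq_fintype_card, Fintype.two_lt_card_iff] at hcon
  obtain ⟨a, b, hab, ha1, hb1⟩ : ∃ a b : S, a ≠ b ∧ a ≠ 1 ∧ b ≠ 1 := by
    obtain ⟨a, b, c, hab, hac, hbc⟩ := hcon
    by_cases ha : a = 1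
    · exact ⟨b, c, hbc, fun h => hab (ha.trans h.symm), fun h => hac (ha.trans h.symm)⟩
    · by_cases hb : b = 1
      · exact ⟨a, c, hac, ha, fun h => hbc (hb.trans h.symm)⟩
      · exact ⟨a, b, hab, ha, hb⟩
  have ea := hinv a a.2 (fun h => ha1 (Subtype.ext h))
  have eb := hinv b b.2 (fun h => hb1 (Subtype.ext h))
  have e1 : ((a⁻¹ * b : S) : K) * y * ((a⁻¹ * b : S) : K)⁻¹ = y := by
    have h1 : ((a⁻¹ * b : S) : K) * y * ((a⁻¹ * b : S) : K)⁻¹ = (a : K)⁻¹ * ((b : K) * y * (b : K)⁻¹) * a := by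
      push_cast
      group
    rw [h1, eb, ← ea]
    group
  have e2 := hc' _ (a⁻¹ * b).2 e1
  have e3 : a⁻¹ * b = 1 := Subtype.ext e2
  exact hab (inv_mul_eq_one.1 e3)

/-- the subgroup of order `r` of a cyclic group -/
theorem mem_of_cyclic {T : Type*} [Group T] [Finite T] [IsCyclic T] {r : ℕ} (hr : r.Prime) {y z : T} (hy : orderOf y = r)
    (hz : orderOf z = r) : z ∈ zpowers y := by
  classical
  have := Fintype.ofFinite T
  have h1 := IsCyclic.card_pow_eq_one_le (α := T) hr.pos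
  have h2 : (zpowers y : Set T).toFinset ⊆ Finset.univ.filter fun a : T => a ^ r = 1 := by
    intro a ha
    rw [Set.mem_toFinset] at ha
    rw [Finset.mem_filter]
    refine ⟨Finset.mem_univ _, ?_⟩
    obtain ⟨k, rfl⟩ := ha
    beta_reduce
    rw [← zpow_natCast, ← zpow_mul, mul_comm, zpow_mul, zpow_natCast, ← hy, pow_orderOf_eq_one, one_zpow]
  have h3 : (zpowers y : Set T).toFinset.card = r := by
    rw [Set.toFinset_card, ← Nat.card_eq_fintype_card]
    change Nat.card (zpowers y) = r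
    rw [Nat.card_zpowers, hy]
  have h4 := Finset.eq_of_subset_of_card_le h2 (h1.trans h3.ge)
  have h5 : z ∈ Finset.univ.filter fun a : T => a ^ r = 1 := by
    rw [Finset.mem_filter]
    refine ⟨Finset.mem_univ _, ?_⟩
    rw [← hz, pow_orderOf_eq_one]
  rw [← h4, Set.mem_toFinset] at h5
  exact h5

/-- Frattini: the index of a normal subgroup containing a good torus is odd -/
theorem odd_index {r : ℕ} [hr : Fact r.Prime] (hr2 : r ≠ 2) {M : Subgroup K} (hM : M.Normal) {T : Subgroup K} (hTM : T ≤ M)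
    (hT : IsCyclic T) (hrT : r ∣ Nat.card T) (hTc : ∀ y ∈ T, orderOf y = r → centralizer {y} ⊓ M ≤ T) {w : K} (hwM : w ∈ M)
    (hw : ∀ b ∈ T, w * b * w⁻¹ = b⁻¹)
    (hk : ∀ y : K, orderOf y = r → ∀ g : K, ∀ k : ℕ, g * y * g⁻¹ = y ^ k → (k : ZMod r) ^ 6 = 1)
    (hc : ∀ y : K, orderOf y = r → ∀ z : K, z * z = 1 → z * y * z⁻¹ = y → z = 1) : Odd M.index := by
  classical
  obtain ⟨y, hy⟩ := exists_prime_orderOf_dvd_card' (G := T) r hrT
  have hyo : orderOf (y : K) = r := by rw [Subgroup.orderOf_coe, hy]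
  obtain ⟨y', hy'⟩ : ∃ y' : M, (y' : K) = y := ⟨⟨y, hTM y.2⟩, rfl⟩
  have hy'o : orderOf y' = r := by rw [← Subgroup.orderOf_coe, hy', hyo]
  -- a Sylow subgroup of `M` containing `y`
  have hpg : IsPGroup r (zpowers y') := IsPGroup.of_card (n := 1) (by rw [Nat.card_zpowers, hy'o, pow_one])
  obtain ⟨R, hR⟩ := hpg.exists_le_sylow
  have hyR : y' ∈ (R : Subgroup M) := hR (mem_zpowers y')
  obtain ⟨R', hR'⟩ : ∃ R', R' = (R : Subgroup M).map M.subtype := ⟨_, rfl⟩
  -- it lies in `T`
  have hRT : R' ≤ T := by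
    have hnt : Nontrivial R := by
      refine ⟨⟨⟨y', hyR⟩, 1, fun h => ?_⟩⟩
      have : y' = 1 := congrArg Subtype.val h
      rw [this, orderOf_one] at hy'o
      exact hr.out.one_lt.ne hy'o
    have hZ : Nontrivial (center R) := R.2.center_nontrivial
    obtain ⟨z, hz⟩ : ∃ z : center R, orderOf z = r := by
      have h1 : IsPGroup r (center R) := R.2.to_subgroup _
      obtain ⟨k, hk⟩ := IsPGroup.iff_card.1 h1
      apply exists_prime_orderOf_dvd_card' r
      rw [hk]
      apply dvd_pow_self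
      rintro rfl
      rw [pow_zero] at hk
      exact (Finite.one_lt_card (α := center R)).ne' hk
    have hzo : orderOf (((z : R) : M) : K) = r := by
      rw [Subgroup.orderOf_coe, Subgroup.orderOf_coe, Subgroup.orderOf_coe, hz]
    have hcomm : ∀ x : R, (z : R) * x = x * z := fun x => (mem_center_iff.1 z.2 x).symm
    have hzT : (((z : R) : M) : K) ∈ T := by
      apply hTc y y.2 hyo
      refine mem_inf.2 ⟨?_, ((z : R) : M).2⟩
      rw [mem_centralizer_singleton_iff, ← hy']
      have := congrArg (fun x : R => ((x : M) : K)) (hcomm ⟨y', hyR⟩)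
      exact this
    rw [hR']
    rintro _ ⟨x, hx, rfl⟩
    apply hTc _ hzT hzo
    refine mem_inf.2 ⟨?_, x.2⟩
    rw [mem_centralizer_singleton_iff]
    have := congrArg (fun x : R => ((x : M) : K)) (hcomm ⟨x, hx⟩)
    exact this.symm
  have hyR' : (y : K) ∈ R' := by
    rw [hR']
    exact ⟨y', hyR, hy'⟩
  have hfr := Sylow.normalizer_sup_eq_top R
  rw [← hR'] at hfr
  obtain ⟨N, hN⟩ : ∃ N, N = normalizer (R' : Set K) := ⟨_, rfl⟩
  rw [← hN] at hfr
  have hNy : ∀ g ∈ N, g * y * g⁻¹ ∈ zpowers (y : K) := by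
    intro g hg
    have h1 : g * y * g⁻¹ ∈ T := by
      rw [hN] at hg
      exact hRT ((mem_normalizer_iff.1 hg y).1 hyR')
    have ho : orderOf (⟨g * y * g⁻¹, h1⟩ : T) = r := by
      rw [← Subgroup.orderOf_coe]
      change orderOf (g * (y : K) * g⁻¹) = r
      rw [← hyo]
      exact (MulAut.conj g).orderOf_eq (y : K)
    have h2 : (⟨g * y * g⁻¹, h1⟩ : T) ∈ zpowers y := mem_of_cyclic hr.out hy ho
    obtain ⟨k, hk⟩ := mem_zpowers_iff.1 h2
    refine mem_zpowers_iff.2 ⟨k, ?_⟩
    have h3 := congrArg Subtype.val hk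
    rw [Subgroup.coe_zpow] at h3
    exact h3
  by_contra hodd
  rw [Nat.not_odd_iff_even] at hodd
  -- the order of `N`
  have hidx : Nat.card N = Nat.card (M.subgroupOf N) * M.index := by
    have h2 : M.relIndex N = M.index := by
      rw [← Subgroup.relIndex_sup_right, hfr, relIndex_top_right]
    rw [← h2]
    exact (Subgroup.card_mul_index _).symm
  have hwN : w ∈ N := by
    rw [hN, mem_normalizer_iff]
    intro x
    constructor
    · intro hx
      rw [hw x (hRT hx)]
      exact inv_mem hx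
    · intro hx
      have h1 := hw _ (hRT hx)
      -- `w⁻¹` inverts as well
      have h2 : w * (w * x * w⁻¹)⁻¹ * w⁻¹ = w * x * w⁻¹ := by
        rw [← conj_inv, h1, inv_inv]
      have h3 := mul_left_cancel (mul_right_cancel h2)
      rw [← h3]
      exact inv_mem hx
  have hcR : 2 ∣ Nat.card (M.subgroupOf N) := by
    obtain ⟨w', hw'⟩ : ∃ w' : M.subgroupOf N, ((w' : N) : K) = w := ⟨⟨⟨w, hwN⟩, hwM⟩, rfl⟩
    refine dvd_trans ?_ (_root_.orderOf_dvd_natCard w')
    rw [← Subgroup.orderOf_coe, ← Subgroup.orderOf_coe, hw']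
    by_contra h2
    have hodd' : ∀ k : ℕ, w ^ (2 * k + 1) * y * (w ^ (2 * k + 1))⁻¹ = (y : K)⁻¹ := by
      intro k
      induction k with
      | zero => rw [mul_zero, zero_add, pow_one, hw y y.2]
      | succ k ih =>
        have h2 : w ^ (2 * (k + 1) + 1) * y * (w ^ (2 * (k + 1) + 1))⁻¹ =
            w * (w * (w ^ (2 * k + 1) * y * (w ^ (2 * k + 1))⁻¹) * w⁻¹) * w⁻¹ := by
          rw [show 2 * (k + 1) + 1 = (2 * k + 1) + 1 + 1 by ring, pow_succ', pow_succ']
          group
        rw [h2, ih, hw _ (inv_mem y.2), inv_inv, hw y y.2]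
    have h3 := hodd' (orderOf w / 2)
    rw [show 2 * (orderOf w / 2) + 1 = orderOf w by omega, pow_orderOf_eq_one, one_mul, inv_one, mul_one] at h3
    have h4 : (y : K) ^ 2 = 1 := by
      rw [pow_two]
      nth_rw 2 [h3]
      exact mul_inv_cancel _
    have h5 := orderOf_dvd_of_pow_eq_one h4
    rw [hyo] at h5
    exact hr2 ((Nat.prime_dvd_prime_iff_eq hr.out Nat.prime_two).1 h5)
  have h4 : 2 ^ 2 ∣ Nat.card N := by
    rw [hidx, pow_two]
    exact Nat.mul_dvd_mul hcR hodd.two_dvd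
  obtain ⟨S, hS⟩ := Sylow.exists_subgroup_card_pow_prime 2 h4
  have := card_le_two (S := S.map N.subtype) hyo (hk y hyo) (hc y hyo) (by
    apply IsPGroup.of_card (n := 2)
    rw [Subgroup.card_map_of_injective N.subtype_injective, hS]) (by
    rintro _ ⟨s, -, rfl⟩
    exact hNy s s.2)
  rw [Subgroup.card_map_of_injective N.subtype_injective, hS] at this
  norm_num at this

end grp

end Cfsg.Agent.H544.Rg
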