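import Cfsg.Agent.H544.Rg.Three
import Cfsg.Agent.H544.Rg.Norm

/-!
# S3691, `Sp_6(q)`, `q` even: the normaliser of `G₂(q)` has odd index (helper544)
-/

set_option autoImplicit false
set_option linter.unusedSectionVars false

namespace Cfsg.Agent.H544.Rg

open Module Subgroup
open Cfsg Cfsg.Lie Cfsg.Agent.H436

universe u v w

variable {F : Type u} {V : Type v} [Field F] [AddCommGroup V] [Module F V]

theorem exists_sqrt [Finite F] [CharP F 2] (a : F) : ∃ b, b * b = a := by
  have := Fintype.ofFinite F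
  obtain ⟨b, hb⟩ := FiniteField.isSquare_of_char_two (ringChar.eq F 2 |>.symm ▸ rfl) a
  exact ⟨b, hb.symm⟩

/-- the nilpotent operator of an involution of rank three -/
theorem nil_of [Finite F] [CharP F 2] {B : LinearMap.BilinForm F V} (halt : ∀ x, B x x = 0)
    (hnd : ∀ x, (∀ y, B x y = 0) → x = 0) [FiniteDimensional F V] (hV : finrank F V = 6) {s : V ≃ₗ[F] V}
    (hs : ∀ x y, B (s x) (s y) = B x y) (hss : s * s = 1)
    (hs3 : finrank F (fix s) = 3) : Nil B ((s : V →ₗ[F] V) - LinearMap.id) := by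
  have hs2 : ∀ v, s (s v) = v := fun v => LinearEquiv.congr_fun hss v
  refine ⟨halt, hnd, ?_, ?_, ?_, hV⟩
  · intro x
    change s (s x - x) - (s x - x) = 0
    rw [map_sub, hs2, ← neg_sub (s x) x, ← neg_add', neg_eq_zero]
    exact add_self_V (F := F) _
  · intro x y
    change B (s x - x) y = B x (s y - y)
    rw [map_sub, LinearMap.sub_apply, map_sub]
    congr 1
    have := hs x (s y)
    rwa [hs2] at this
  · have h1 := finrank_com s
    have : finrank F (LinearMap.range ((s : V →ₗ[F] V) - LinearMap.id)) = finrank F (com s) := rfl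
    omega

/-- an element of order `r` has no fixed vectors -/
theorem fix_bot [Finite F] [Finite V] {B : LinearMap.BilinForm F V} (halt : ∀ x, B x x = 0)
    (hnd : ∀ x, (∀ y, B x y = 0) → x = 0) (hV : finrank F V = 6) {r : ℕ} (hr : r.Prime) (hrF : (r : F) ≠ 0)
    (hrq : ¬ r ∣ Nat.card F) (h3 : ∀ k, r ∣ Nat.card F ^ k - 1 → 3 ∣ k) {y : V ≃ₗ[F] V} (hy : orderOf y = r)
    (hyB : ∀ u v, B (y u) (y v) = B u v) : fix y = ⊥ := by
  have hsymm : ∀ u v, B u v = - B v u := by
    intro u v
    have h1 := halt (u + v)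
    simp only [map_add, LinearMap.add_apply, halt, zero_add, add_zero] at h1
    exact eq_neg_of_add_eq_zero_right h1
  have hyr : y ^ r = 1 := by rw [← hy]; exact pow_orderOf_eq_one y
  have h1 := dvd_finrank hr hrq h3 y (n := 1) (by rw [pow_one]; exact hyr) (U := ⊤) (fun _ _ => trivial)
  rw [finrank_top, top_inf_eq, hV] at h1
  have h2 : finrank F (fix y) ≠ 6 := by
    intro h
    have h3 : fix y = ⊤ := Submodule.eq_top_of_finrank_eq (by rw [h, hV])
    have h4 : y = 1 := by
      ext v
      have h5 : v ∈ fix y := by rw [h3]; trivial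
      exact mem_fix.1 h5
    rw [h4, orderOf_one] at hy
    exact hr.one_lt.ne hy
  have h5 := Submodule.finrank_le (fix y)
  rw [hV] at h5
  have hsplit := isCompl_fix_com hrF hyr
  -- the form is nondegenerate on `fix y`
  have hndU : ∀ u ∈ fix y, (∀ v ∈ fix y, B u v = 0) → u = 0 := by
    intro u hu h
    apply hnd
    intro v
    have hv : v ∈ fix y ⊔ com y := by rw [hsplit.sup_eq_top]; trivial
    obtain ⟨a, ha, b, hb, rfl⟩ := Submodule.mem_sup.1 hv
    obtain ⟨c, rfl⟩ := mem_com.1 hb
    rw [map_add, h a ha, zero_add, map_sub]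
    have h6 := hyB u c
    rw [mem_fix.1 hu] at h6
    rw [h6, sub_self]
  by_contra hbot
  have h6 : finrank F (fix y) ≠ 0 := by
    intro h
    exact hbot (Submodule.finrank_eq_zero.1 h)
  have h7 : finrank F (fix y) = 3 := by omega
  obtain ⟨b⟩ : Nonempty (Basis (Fin 3) F (fix y)) := ⟨finBasisOfFinrankEq F _ h7⟩
  -- a vector in the radical
  obtain ⟨u, hu⟩ : ∃ u : fix y, u = B (b 1) (b 2) • b 0 - B (b 0) (b 2) • b 1 + B (b 0) (b 1) • b 2 := ⟨_, rfl⟩
  have hrad : u = 0 := by
    apply Subtype.ext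
    apply hndU u u.2
    intro v hv
    have hb : ∀ i, B u (b i) = 0 := by
      intro i
      rw [hu]
      simp only [Submodule.coe_add, Submodule.coe_sub, Submodule.coe_smul, map_add, map_sub, map_smul,
        LinearMap.add_apply, LinearMap.sub_apply, LinearMap.smul_apply, smul_eq_mul]
      fin_cases i
      · simp only [Fin.zero_eta]
        rw [halt, hsymm (b 1 : V) (b 0), hsymm (b 2 : V) (b 0)]
        ring
      · simp only [Fin.mk_one]
        rw [halt, hsymm (b 2 : V) (b 1)]
        ring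
      · simp only [Fin.reduceFinMk]
        rw [halt]
        ring
    have hv' : v = ((∑ i, b.repr ⟨v, hv⟩ i • b i : fix y) : V) := by
      rw [b.sum_repr]
    rw [hv']
    rw [Submodule.coe_sum, map_sum]
    apply Finset.sum_eq_zero
    intro i _
    rw [Submodule.coe_smul, map_smul, hb, smul_zero]
  rw [hrad] at hu
  have h01 : B (b 0) (b 1) = 0 ∧ B (b 0) (b 2) = 0 := by
    have h8 : (B (b 1) (b 2)) • b 0 + (-(B (b 0) (b 2))) • b 1 + (B (b 0) (b 1)) • b 2 = 0 := by
      rw [neg_smul, ← sub_eq_add_neg]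
      exact hu.symm
    have h9 := b.linearIndependent
    rw [Fintype.linearIndependent_iff] at h9
    have h10 := h9 ![B (b 1) (b 2), -(B (b 0) (b 2)), B (b 0) (b 1)] (by
      rw [Fin.sum_univ_three]
      exact h8)
    exact ⟨h10 2, neg_eq_zero.1 (h10 1)⟩
  have h11 : (b 0 : V) = 0 := by
    apply hndU _ (b 0).2
    intro v hv
    have hv' : v = ((∑ i, b.repr ⟨v, hv⟩ i • b i : fix y) : V) := by
      rw [b.sum_repr]
    rw [hv', Fin.sum_univ_three]
    simp only [Submodule.coe_add, Submodule.coe_smul, map_add, map_smul, h01.1, h01.2, halt, smul_zero, add_zero]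
  exact b.ne_zero 0 (Subtype.ext h11)

/-- no involution commutes with `y` -/
theorem cent_inv [Finite F] [CharP F 2] [Finite V] {B : LinearMap.BilinForm F V} (halt : ∀ x, B x x = 0)
    (hnd : ∀ x, (∀ y, B x y = 0) → x = 0) (hV : finrank F V = 6) {r : ℕ} (hr : r.Prime)
    (hrq : ¬ r ∣ Nat.card F) (h3 : ∀ k, r ∣ Nat.card F ^ k - 1 → 3 ∣ k) {y z : V ≃ₗ[F] V} (hy : orderOf y = r)
    (hyB : ∀ u v, B (y u) (y v) = B u v) (hzB : ∀ u v, B (z u) (z v) = B u v) (hfix : fix y = ⊥)
    (hz : z * z = 1) (hzy : z * y * z⁻¹ = y) : z = 1 := by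
  have hfin : FiniteDimensional F V := inferInstance
  have hyr : y ^ r ^ 1 = 1 := by rw [pow_one, ← hy]; exact pow_orderOf_eq_one y
  have hdiv : ∀ U : Submodule F V, (∀ u ∈ U, y u ∈ U) → 3 ∣ finrank F U := by
    intro U hU
    have h1 := dvd_finrank hr hrq h3 y hyr hU
    rwa [hfix, inf_bot_eq, finrank_bot, Nat.sub_zero] at h1
  have hcomm : ∀ v, z (y v) = y (z v) := by
    intro v
    have h1 : z * y = y * z := mul_inv_eq_iff_eq_mul.1 hzy
    exact LinearEquiv.congr_fun h1 v
  have hzz : ∀ v, z (z v) = v := fun v => LinearEquiv.congr_fun hz v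
  by_contra hne
  have hd1 : 3 ∣ finrank F (fix z) := by
    apply hdiv
    intro u hu
    rw [mem_fix] at hu ⊢
    rw [hcomm, hu]
  have h2 := finrank_com z
  rw [hV] at h2
  have hle : com z ≤ fix z := by
    rintro _ ⟨v, rfl⟩
    rw [mem_fix]
    change z (z v - v) = z v - v
    rw [map_sub, hzz, ← neg_sub (z v) v, neg_eq_iff_add_eq_zero]
    exact add_self_V (F := F) _
  have hle' := Submodule.finrank_mono hle
  have hpos : finrank F (fix z) ≠ 6 := by
    intro h6
    apply hne
    have h7 : fix z = ⊤ := Submodule.eq_top_of_finrank_eq (by rw [h6, hV])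
    ext v
    have : v ∈ fix z := by rw [h7]; trivial
    exact mem_fix.1 this
  have hz3 : finrank F (fix z) = 3 := by omega
  have hN := nil_of halt hnd hV hzB hz hz3
  obtain ⟨N, hNd⟩ : ∃ N : Module.End F V, N = (z : V →ₗ[F] V) - LinearMap.id := ⟨_, rfl⟩
  rw [← hNd] at hN
  have hNy : ∀ v, N (y v) = y (N v) := by
    intro v
    rw [hNd]
    change z (y v) - y v = y (z v - v)
    rw [hcomm, map_sub]
  obtain ⟨x, hx⟩ := hN.exists_ne
  have hadd : ∀ u v, B (u + v) (N (u + v)) = B u (N u) + B v (N v) := by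
    intro u v
    have e : B (u + v) (N (u + v)) = B u (N u) + B v (N v) + (B u (N v) + B v (N u)) := by
      simp only [map_add, LinearMap.add_apply]
      ring
    rw [e, hN.bsymm v u, add_self_F, add_zero]
  have hsm : ∀ (c : F) (u : V), B (c • u) (N (c • u)) = c * c * B u (N u) := by
    intro c u
    rw [map_smul, map_smul, LinearMap.smul_apply, map_smul, smul_eq_mul, smul_eq_mul]
    ring
  let W : Submodule F V :=
    { carrier := {u | B u (N u) = 0}
      zero_mem' := by
        change B (0 : V) (N 0) = 0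
        rw [map_zero, LinearMap.zero_apply]
      add_mem' := fun {u v} hu hv => by
        change B (u + v) (N (u + v)) = 0
        rw [hadd, show B u (N u) = 0 from hu, show B v (N v) = 0 from hv, add_zero]
      smul_mem' := fun c u hu => by
        change B (c • u) (N (c • u)) = 0
        rw [hsm, show B u (N u) = 0 from hu, mul_zero] }
  have hW3 : 3 ∣ finrank F W := by
    apply hdiv
    intro u hu
    change B (y u) (N (y u)) = 0
    rw [hNy, hyB]
    exact hu
  have hWt : W ≠ ⊤ := by
    intro h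
    have : x ∈ W := by rw [h]; trivial
    exact hx this
  have hWs : W ⊔ Submodule.span F {x} = ⊤ := by
    rw [eq_top_iff]
    intro v _
    obtain ⟨d, hd⟩ := exists_sqrt (B v (N v) / B x (N x))
    have h1 : v + d • x ∈ W := by
      change B (v + d • x) (N (v + d • x)) = 0
      rw [hadd, hsm, hd, div_mul_cancel₀ _ hx, add_self_F]
    have h2 : v = (v + d • x) + d • x := by
      rw [add_assoc, add_self_V (F := F), add_zero]
    rw [h2]
    exact Submodule.add_mem_sup h1 (Submodule.smul_mem _ _ (Submodule.mem_span_singleton_self x))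
  have h5 := Submodule.finrank_add_le_finrank_add_finrank W (Submodule.span F {x})
  rw [hWs, finrank_top, hV] at h5
  have hx0 : x ≠ 0 := by
    rintro rfl
    apply hx
    rw [map_zero, LinearMap.zero_apply]
  have h6 : finrank F (Submodule.span F {x}) = 1 := finrank_span_singleton hx0
  have h7 : finrank F W < 6 := by
    rw [← hV]
    exact Submodule.finrank_lt hWt
  omega

/-- **the index of `G₂(q)` in its normaliser in `Sp₆(q)` is odd** -/
theorem g2_index [Finite F] [CharP F 2] [Finite V] (hq : 2 ≤ Nat.card F) {B : LinearMap.BilinForm F V}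
    (halt : ∀ x, B x x = 0) (hnd : ∀ x, (∀ y, B x y = 0) → x = 0) (hV : finrank F V = 6)
    {F' : Type w} [Field F'] [Fintype F'] (hF' : Fintype.card F' = Nat.card F)
    {K : Type*} [Group K] [Finite K] (φ : K →* (V ≃ₗ[F] V)) (hφ : Function.Injective φ)
    (hK : ∀ g x y, B (φ g x) (φ g y) = B x y) (M : Subgroup K) (hM : M.Normal) (e : M ≃* chevG2.group F') : Odd M.index := by
  obtain ⟨r, hr⟩ := exists_prim (q := Nat.card F) (e := 3) hq le_rfl (by omega)
  obtain ⟨hrm, hr3⟩ := Cfsg.Agent.H763.Wei.prim3 (by omega) hr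
  obtain ⟨T, hTc, hTm, hTcent, w, hw⟩ := Cfsg.Agent.H763.Wei.g2_neg_3 hF' (m := Nat.card F ^ 2 + Nat.card F + 1)
    (by push_cast; ring) hr.prime hrm hr3
  have hrp := hr.prime
  have := Fact.mk hr.prime
  have h2F : 2 ∣ Nat.card F := by
    have := Fintype.ofFinite F
    rw [Nat.card_eq_fintype_card, ← CharP.cast_eq_zero_iff F 2]
    exact Nat.cast_card_eq_zero F
  have hrne : r ≠ 2 := by
    rintro rfl
    exact hr.not_dvd h2F
  have hrF : (r : F) ≠ 0 := by
    intro h
    rw [CharP.cast_eq_zero_iff F 2] at h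
    exact hrne ((Nat.prime_dvd_prime_iff_eq Nat.prime_two hr.prime).1 h).symm
  have h3 : ∀ k, r ∣ Nat.card F ^ k - 1 → 3 ∣ k := fun k hk => (hr.dvd_iff k).1 hk
  have hord : orderOf (Nat.card F : ZMod r) = 3 := by
    have key : ∀ k, (Nat.card F : ZMod r) ^ k = 1 ↔ 3 ∣ k := by
      intro k
      rw [← hr.dvd_iff, ← ZMod.natCast_eq_zero_iff, Nat.cast_sub (Nat.one_le_pow _ _ (by omega)), Nat.cast_pow,
        Nat.cast_one, sub_eq_zero]
    apply Nat.dvd_antisymm
    · exact orderOf_dvd_of_pow_eq_one ((key 3).2 dvd_rfl)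
    · exact (key _).1 (pow_orderOf_eq_one _)
  -- the torus in `K`
  obtain ⟨T', hT'⟩ : ∃ T' : Subgroup K, T' = (T.map e.symm.toMonoidHom).map M.subtype := ⟨_, rfl⟩
  have eT : T ≃* T' := (T.equivMapOfInjective _ e.symm.injective).trans
    (((T.map e.symm.toMonoidHom).equivMapOfInjective _ M.subtype_injective).trans (MulEquiv.subgroupCongr hT'.symm))
  have hmemT : ∀ x : M, (x : K) ∈ T' ↔ e x ∈ T := by
    intro x
    rw [hT']
    constructor
    · rintro ⟨_, ⟨t, ht, rfl⟩, hx⟩
      have h1 : e.symm t = x := Subtype.ext hx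
      rw [← h1, e.apply_symm_apply]
      exact ht
    · intro hx
      exact ⟨x, ⟨e x, hx, e.symm_apply_apply x⟩, rfl⟩
  have hT'M : T' ≤ M := by rw [hT']; exact map_subtype_le _
  have hyfix : ∀ y : K, orderOf y = r → orderOf (φ y) = r := fun y hy => by rw [orderOf_injective φ hφ, hy]
  refine odd_index hrne hM hT'M (isCyclic_of_surjective eT eT.surjective) ?_ ?_ (w := (e.symm w : M)) (e.symm w).2 ?_ ?_ ?_
  · rw [← Nat.card_congr eT.toEquiv, hTm]
    exact hrm
  · intro y hyT hyo x hx
    obtain ⟨hx1, hx2⟩ := mem_inf.1 hx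
    have hyM := hT'M hyT
    have h1 := hTcent (e ⟨y, hyM⟩) ((hmemT ⟨y, hyM⟩).1 hyT) (by
      have h2 : orderOf (⟨y, hyM⟩ : M) = r := by rw [← Subgroup.orderOf_coe, hyo]
      rw [← h2]
      exact orderOf_injective e.toMonoidHom e.injective _)
    have h2 : e ⟨x, hx2⟩ ∈ centralizer {e ⟨y, hyM⟩} := by
      rw [mem_centralizer_singleton_iff] at hx1 ⊢
      rw [← map_mul, ← map_mul]
      exact congrArg e (Subtype.ext hx1)
    exact (hmemT ⟨x, hx2⟩).2 (h1 h2)
  · intro b hb
    have hbM := hT'M hb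
    have h1 := hw _ ((hmemT ⟨b, hbM⟩).1 hb)
    have h2 := congrArg e.symm h1
    rw [map_mul, map_mul, map_inv, map_inv, e.symm_apply_apply] at h2
    exact congrArg Subtype.val h2
  · intro y hy g k hg
    have h1 := pow_card_two (F := F) (V := V) (c := 3) hrF hord (by rw [hV]; norm_num) (y := φ y) (g := φ g) (k := k)
      (by rw [← map_pow, ← hy, pow_orderOf_eq_one, map_one])
      (by
        intro h
        have := hyfix y hy
        rw [h, orderOf_one] at this
        exact hrp.one_lt.ne this)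
      (by rw [← map_mul, ← map_inv, ← map_mul, hg, map_pow])
    exact h1
  · intro y hy z hz hzy
    apply hφ
    rw [map_one]
    refine cent_inv halt hnd hV hrp hr.not_dvd h3 (hyfix y hy) (hK y) (hK z)
      (fix_bot halt hnd hV hrp hrF hr.not_dvd h3 (hyfix y hy) (hK y)) ?_ ?_
    · rw [← map_mul, hz, map_one]
    · rw [← map_mul, ← map_inv, ← map_mul, hzy]

end Cfsg.Agent.H544.Rg
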