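import Cfsg.Agent.H544.Rg.Main
import Cfsg.Agent.S0752

/-!
# S3691, `Sp_6(q)`, `q` even: the four-dimensional section (helper544)

* `exists_hom` : a group of isometries leaving `W` invariant, `4 ≤ dim W ≤ 5`, `dim rad W ≤ 1`, acts on `W / rad W`
* `rho_point`, `rho_plane` : the stabilisers of a point and of a nondegenerate plane
-/

set_option autoImplicit false
set_option linter.unusedSectionVars false

namespace Cfsg.Agent.H544.Rg

open Module Subgroup Cfsg Cfsg.Agent.H436 Cfsg.Agent.ClassicalGeometry.SympBasic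
open scoped Matrix

universe v

variable {F : Type} {V : Type v} [Field F] [AddCommGroup V] [Module F V] [CharP F 2]

/-- the action on `W / rad W` -/
theorem exists_hom [FiniteDimensional F V] {B : LinearMap.BilinForm F V} (halt : ∀ x, B x x = 0)
    {K : Subgroup (V ≃ₗ[F] V)} (hK : ∀ g ∈ K, ∀ x y, B (g x) (g y) = B x y) {W : Submodule F V}
    (hW : ∀ g ∈ K, ∀ w ∈ W, g w ∈ W) (h4 : 4 ≤ finrank F W) (h5 : finrank F W ≤ 5)
    (hrad : finrank F (W ⊓ B.orthogonal W : Submodule F V) ≤ 1) :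
    ∃ ρ : K →* Matrix.symplecticGroup (Fin 2) F, ∀ g : K, ρ g = 1 → ∀ w ∈ W,
      (g : V ≃ₗ[F] V) w - w ∈ (W ⊓ B.orthogonal W : Submodule F V) := by
  have hsymm : ∀ x y, B x y = B y x := by
    intro x y
    have h1 := halt (x + y)
    simp only [map_add, LinearMap.add_apply, halt, zero_add, add_zero] at h1
    rw [← neg_F (B x y)]
    exact (eq_neg_of_add_eq_zero_left h1).symm
  obtain ⟨m, k, b, b1, b2, b3, b4⟩ := S0752.result (B.restrict W) (fun w => halt w)
  -- `m = 2`
  have hdim := Module.finrank_eq_card_basis b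
  rw [Fintype.card_sum, Fintype.card_sum, Fintype.card_fin, Fintype.card_fin] at hdim
  have hmemrad : ∀ w : W, (w : V) ∈ (W ⊓ B.orthogonal W : Submodule F V) ↔ ∀ z : W, B w z = 0 := by
    intro w
    constructor
    · rintro ⟨-, h⟩ z
      rw [hsymm]
      exact h z z.2
    · intro h
      refine ⟨w.2, fun z hz => ?_⟩
      change B z w = 0
      rw [hsymm]
      exact h ⟨z, hz⟩
  have hk : k ≤ 1 := by
    refine le_trans ?_ hrad
    have hli : LinearIndependent F fun j : Fin k =>
        (⟨b (Sum.inr j), (hmemrad _).2 (fun z => b4 j z)⟩ : (W ⊓ B.orthogonal W : Submodule F V)) := by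
      have h1 : LinearIndependent F fun j : Fin k => ((b (Sum.inr j) : W) : V) :=
        (b.linearIndependent.comp _ Sum.inr_injective).map' W.subtype (Submodule.ker_subtype W)
      exact LinearIndependent.of_comp (W ⊓ B.orthogonal W : Submodule F V).subtype h1
    have h2 := hli.fintype_card_le_finrank
    rwa [Fintype.card_fin] at h2
  obtain rfl : m = 2 := by omega
  -- coordinates
  let φ : (Fin 2 ⊕ Fin 2 → F) →ₗ[F] W := Fintype.linearCombination F (fun j => b (Sum.inl j))
  let π : W →ₗ[F] (Fin 2 ⊕ Fin 2 → F) := LinearMap.pi fun j => b.coord (Sum.inl j)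
  have hφ : ∀ u, φ u = ∑ j, u j • b (Sum.inl j) := fun u => Fintype.linearCombination_apply F _ u
  have hπφ : ∀ u, π (φ u) = u := by
    intro u
    ext j
    change b.coord (Sum.inl j) (φ u) = u j
    rw [hφ, map_sum]
    simp only [map_smul, Basis.coord_apply, Basis.repr_self, smul_eq_mul]
    rw [Finset.sum_eq_single j]
    · rw [Finsupp.single_eq_same, mul_one]
    · intro i _ hij
      rw [Finsupp.single_eq_of_ne (by simpa using hij.symm), mul_zero]
    · intro h
      exact absurd (Finset.mem_univ j) h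
  have hBrad : ∀ (j : Fin k) (z : W), B (b (Sum.inr j)) z = 0 := fun j z => b4 j z
  have hBφ : ∀ u v, B (φ u) (φ v) = sympForm 2 F u v := by
    have h1 : (B.restrict W).compl₁₂ φ φ = sympBilin 2 F := by
      have hsingle : ∀ i, φ (Pi.single i 1) = b (Sum.inl i) := by
        intro i
        rw [hφ, Finset.sum_eq_single i]
        · rw [Pi.single_eq_same, one_smul]
        · intro j _ hj
          rw [Pi.single_eq_of_ne hj, zero_smul]
        · intro h
          exact absurd (Finset.mem_univ i) h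
      apply LinearMap.ext_basis (Pi.basisFun F _) (Pi.basisFun F _)
      intro i j
      rw [LinearMap.compl₁₂_apply, Pi.basisFun_apply, Pi.basisFun_apply, hsingle, hsingle, sympBilin_apply]
      rcases i with i | i <;> rcases j with j | j
      · rw [b2, sympForm_single_inl_left]
        simp
      · rw [b1, sympForm_single_inl_left, neg_F]
        simp only [Pi.single_apply, Sum.inr.injEq]
      · have h2 : (B.restrict W) (b (Sum.inl (Sum.inr i))) (b (Sum.inl (Sum.inl j))) =
            (B.restrict W) (b (Sum.inl (Sum.inl j))) (b (Sum.inl (Sum.inr i))) := hsymm _ _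
        rw [h2, b1, sympForm_single_inr_left]
        simp only [Pi.single_apply, Sum.inl.injEq, eq_comm]
      · rw [b3, sympForm_single_inr_left]
        simp
    intro u v
    have h2 := LinearMap.congr_fun₂ h1 u v
    rw [LinearMap.compl₁₂_apply] at h2
    exact h2
  -- the radical
  have hdecomp : ∀ w : W, ∀ z : W, B (w : V) z = B (φ (π w) : W) z := by
    intro w z
    have h1 : w = φ (π w) + ∑ j : Fin k, b.coord (Sum.inr j) w • b (Sum.inr j) := by
      conv_lhs => rw [← b.sum_repr w, Fintype.sum_sum_type]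
      rw [hφ]
      rfl
    have h2 : B ((∑ j : Fin k, b.coord (Sum.inr j) w • b (Sum.inr j) : W) : V) z = 0 := by
      rw [AddSubmonoidClass.coe_finsetSum, map_sum, LinearMap.sum_apply]
      apply Finset.sum_eq_zero
      intro j _
      rw [Submodule.coe_smul, map_smul, LinearMap.smul_apply, hBrad, smul_zero]
    conv_lhs => rw [h1]
    rw [Submodule.coe_add, map_add, LinearMap.add_apply, h2, add_zero]
  have hπ0 : ∀ w : W, (∀ z : W, B w z = 0) → π w = 0 := by
    intro w hw
    apply eq_zero_of_forall_sympForm_right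
    intro u
    rw [← hBφ, ← hdecomp, hw]
  have hπ0' : ∀ w : W, π w = 0 → ∀ z : W, B w z = 0 := by
    intro w hw z
    rw [hdecomp, hw, map_zero]
    simp
  -- the action
  let A : K → (W →ₗ[F] W) := fun g => ((g : V ≃ₗ[F] V) : V →ₗ[F] V).restrict (hW g g.2)
  have hA : ∀ (g : K) (w : W), ((A g w : W) : V) = (g : V ≃ₗ[F] V) w := fun g w => rfl
  have hAB : ∀ (g : K) (w z : W), B (A g w : W) (A g z : W) = B (w : V) z := fun g w z => hK g g.2 w z
  have hsurj : ∀ (g : K) (z : W), ∃ z' : W, A g z' = z := fun g z =>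
    ⟨A g⁻¹ z, Subtype.ext ((g : V ≃ₗ[F] V).apply_symm_apply z)⟩
  have hArad : ∀ (g : K) (w : W), π w = 0 → π (A g w) = 0 := by
    intro g w hw
    apply hπ0
    intro z
    obtain ⟨z', rfl⟩ := hsurj g z
    rw [hAB]
    exact hπ0' w hw z'
  have hAφ : ∀ (g : K) (w : W), π (A g (φ (π w))) = π (A g w) := by
    intro g w
    rw [← sub_eq_zero, ← map_sub, ← map_sub]
    apply hArad
    rw [map_sub, hπφ, sub_self]
  let M : K → Matrix (Fin 2 ⊕ Fin 2) (Fin 2 ⊕ Fin 2) F := fun g => LinearMap.toMatrix' (π ∘ₗ A g ∘ₗ φ)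
  have hM : ∀ g u, M g *ᵥ u = π (A g (φ u)) := by
    intro g u
    change (LinearMap.toMatrix' (π ∘ₗ A g ∘ₗ φ)) *ᵥ u = _
    rw [LinearMap.toMatrix'_mulVec]
    rfl
  have hMmem : ∀ g, M g ∈ Matrix.symplecticGroup (Fin 2) F := by
    intro g
    rw [mem_symplecticGroup_iff]
    intro u v
    rw [hM, hM, ← hBφ, ← hdecomp, hsymm, ← hdecomp, hsymm, hAB, hBφ]
  have hMext : ∀ X Y : Matrix (Fin 2 ⊕ Fin 2) (Fin 2 ⊕ Fin 2) F, (∀ u, X *ᵥ u = Y *ᵥ u) → X = Y := by
    intro X Y h
    apply Matrix.mulVec_injective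
    funext u
    exact h u
  let ρ : K →* Matrix.symplecticGroup (Fin 2) F :=
    { toFun := fun g => ⟨M g, hMmem g⟩
      map_one' := by
        apply Subtype.ext
        apply hMext
        intro u
        change M 1 *ᵥ u = (1 : Matrix _ _ F) *ᵥ u
        rw [hM, Matrix.one_mulVec]
        have : A 1 (φ u) = φ u := rfl
        rw [this, hπφ]
      map_mul' := fun g h => by
        apply Subtype.ext
        apply hMext
        intro u
        change M (g * h) *ᵥ u = (M g * M h) *ᵥ u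
        rw [← Matrix.mulVec_mulVec, hM, hM, hM, hAφ]
        rfl }
  refine ⟨ρ, fun g hg w hw => ?_⟩
  have hMg : M g = 1 := congrArg Subtype.val hg
  have key : ∀ w : W, π (A g w) = π w := by
    intro w
    rw [← hAφ, ← hM, hMg, Matrix.one_mulVec]
  have h1 := (hmemrad (A g ⟨w, hw⟩ - ⟨w, hw⟩)).2 (hπ0' _ (by rw [map_sub, key, sub_self]))
  exact h1

/-- the kernel is an `r'`-group -/
theorem not_dvd_ker [Finite F] [Finite V] {r a : ℕ} (H : Hyp F V r a) {B : LinearMap.BilinForm F V}
    {K : Subgroup (V ≃ₗ[F] V)} {W : Submodule F V}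
    (hradinv : ∀ g ∈ K, ∀ w ∈ (W ⊓ B.orthogonal W : Submodule F V), g w ∈ (W ⊓ B.orthogonal W : Submodule F V))
    (h4 : 4 ≤ finrank F W) (hrad : finrank F (W ⊓ B.orthogonal W : Submodule F V) ≤ 1)
    (ρ : K →* Matrix.symplecticGroup (Fin 2) F) (hρ : ∀ g : K, ρ g = 1 → ∀ w ∈ W,
      (g : V ≃ₗ[F] V) w - w ∈ (W ⊓ B.orthogonal W : Submodule F V)) : ¬ r ∣ Nat.card ρ.ker := by
  intro hr
  have hfin : Finite (V ≃ₗ[F] V) := Finite.of_injective (fun e : V ≃ₗ[F] V => (e : V → V)) DFunLike.coe_injective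
  have := Fact.mk H.prime
  obtain ⟨x, hx⟩ := exists_prime_orderOf_dvd_card' r hr
  obtain ⟨y, hy⟩ : ∃ y : V ≃ₗ[F] V, y = ((x : K) : V ≃ₗ[F] V) := ⟨_, rfl⟩
  have hyo : orderOf y = r := by rw [hy, Subgroup.orderOf_coe, Subgroup.orderOf_coe]; exact hx
  have h1 := dvd_finrank H.prime H.ndvd H.four y (n := 1) (by rw [pow_one]; exact H.pow_eq hyo)
    (U := W ⊓ B.orthogonal W) (by rw [hy]; exact hradinv _ (x : K).2)
  have h2 : W ⊓ B.orthogonal W ⊓ fix y = W ⊓ B.orthogonal W :=
    Submodule.eq_of_le_of_finrank_le inf_le_left (by omega)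
  have h3 : W ≤ fix y := by
    intro w hw
    have h5 : y w - w ∈ W ⊓ B.orthogonal W := by rw [hy]; exact hρ x x.2 w hw
    rw [← h2] at h5
    have h6 : y w - w ∈ com y ⊓ fix y := ⟨mem_com.2 ⟨w, rfl⟩, h5.2⟩
    rw [com_inf_fix H.cast_ne (H.pow_eq hyo), Submodule.mem_bot] at h6
    exact mem_fix.2 (sub_eq_zero.1 h6)
  have h5 := Submodule.finrank_mono h3
  rw [H.fix_two hyo] at h5
  omega

/-- `U^⊥` is invariant -/
theorem orth_inv {B : LinearMap.BilinForm F V} {K : Subgroup (V ≃ₗ[F] V)}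
    (hK : ∀ g ∈ K, ∀ x y, B (g x) (g y) = B x y) {U : Submodule F V} (hU : ∀ g ∈ K, ∀ u ∈ U, g u ∈ U) :
    ∀ g ∈ K, ∀ w ∈ B.orthogonal U, g w ∈ B.orthogonal U := by
  intro g hg w hw u hu
  change B u (g w) = 0
  have h1 : g⁻¹ u ∈ U := hU _ (K.inv_mem hg) u hu
  have h2 : B (g⁻¹ u) w = 0 := hw _ h1
  have h3 := hK g hg (g⁻¹ u) w
  have h4 : g (g⁻¹ u) = u := g.apply_symm_apply u
  rwa [h4, h2] at h3

section cases

variable [Finite F] [Finite V] {r a : ℕ} (H : Hyp F V r a) {B : LinearMap.BilinForm F V} (halt : ∀ x, B x x = 0)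
  (hnd : ∀ x, (∀ y, B x y = 0) → x = 0) {K : Subgroup (V ≃ₗ[F] V)} (hK : ∀ g ∈ K, ∀ x y, B (g x) (g y) = B x y)

theorem symm_of (halt : ∀ x, B x x = 0) (x y : V) : B x y = B y x := by
  have h1 := halt (x + y)
  simp only [map_add, LinearMap.add_apply, halt, zero_add, add_zero] at h1
  rw [← neg_F (B x y)]
  exact (eq_neg_of_add_eq_zero_left h1).symm

include H halt hnd hK

/-- stabilisers of subspaces: `W = U^⊥` -/
theorem rho_of {U : Submodule F V} (hU : ∀ g ∈ K, ∀ u ∈ U, g u ∈ U) (h1 : 1 ≤ finrank F U) (h2 : finrank F U ≤ 2)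
    (hrad : finrank F (U ⊓ B.orthogonal U : Submodule F V) ≤ 1) :
    ∃ ρ : K →* Matrix.symplecticGroup (Fin 2) F, ¬ r ∣ Nat.card ρ.ker := by
  have hB : B.Nondegenerate := by
    refine ⟨hnd, fun x hx => hnd x fun y => ?_⟩
    rw [symm_of halt]
    exact hx y
  have hrefl : B.IsRefl := fun x y h => by rw [symm_of halt]; exact h
  have hoo := LinearMap.BilinForm.orthogonal_orthogonal hB hrefl U
  have hd := LinearMap.BilinForm.finrank_orthogonal hB U
  have hdim := H.dim
  have hinv := orth_inv hK hU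
  have hrad' : finrank F (B.orthogonal U ⊓ B.orthogonal (B.orthogonal U) : Submodule F V) ≤ 1 := by
    rw [hoo, inf_comm]
    exact hrad
  obtain ⟨ρ, hρ⟩ := exists_hom halt hK (W := B.orthogonal U) hinv (by omega) (by omega) hrad'
  refine ⟨ρ, not_dvd_ker H (W := B.orthogonal U) ?_ (by omega) hrad' ρ hρ⟩
  intro g hg w hw
  exact ⟨hinv g hg w hw.1, orth_inv hK hinv g hg w hw.2⟩

/-- the stabiliser of a point -/
theorem rho_point {v : V} (hv : v ≠ 0) (hKv : ∀ g ∈ K, ∃ c : F, g v = c • v) :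
    ∃ ρ : K →* Matrix.symplecticGroup (Fin 2) F, ¬ r ∣ Nat.card ρ.ker := by
  have h1 := finrank_span_singleton (K := F) hv
  refine rho_of H halt hnd hK (U := Submodule.span F {v}) ?_ (by omega) (by omega) ?_
  · intro g hg u hu
    obtain ⟨c, rfl⟩ := Submodule.mem_span_singleton.1 hu
    obtain ⟨d, hd⟩ := hKv g hg
    rw [map_smul, hd, smul_smul]
    exact Submodule.mem_span_singleton.2 ⟨c * d, rfl⟩
  · rw [← h1]
    exact Submodule.finrank_mono inf_le_left

/-- the stabiliser of a nondegenerate plane -/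
theorem rho_plane {U : Submodule F V} (hU : ∀ g ∈ K, ∀ u ∈ U, g u ∈ U) (h2 : finrank F U = 2)
    (hnU : U ⊓ B.orthogonal U = ⊥) : ∃ ρ : K →* Matrix.symplecticGroup (Fin 2) F, ¬ r ∣ Nat.card ρ.ker := by
  refine rho_of H halt hnd hK hU (by omega) (by omega) ?_
  rw [hnU, finrank_bot]
  norm_num

/-- **reducible subgroups of order divisible by `r`** -/
theorem rho_red (hrK : r ∣ Nat.card K) {X : Submodule F V} (hX : ∀ g ∈ K, ∀ u ∈ X, g u ∈ X) (h0 : X ≠ ⊥) (h1 : X ≠ ⊤) :
    ∃ ρ : K →* Matrix.symplecticGroup (Fin 2) F, ¬ r ∣ Nat.card ρ.ker := by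
  have hfin : Finite (V ≃ₗ[F] V) := Finite.of_injective (fun e : V ≃ₗ[F] V => (e : V → V)) DFunLike.coe_injective
  have := Fact.mk H.prime
  obtain ⟨y, hy⟩ := exists_prime_orderOf_dvd_card' r hrK
  have hyo : orderOf (y : V ≃ₗ[F] V) = r := by rw [Subgroup.orderOf_coe, hy]
  have hB : B.Nondegenerate := by
    refine ⟨hnd, fun x hx => hnd x fun y => ?_⟩
    rw [symm_of halt]
    exact hx y
  have hrefl : B.IsRefl := fun x y h => by rw [symm_of halt]; exact h
  have hfixle : ∀ X : Submodule F V, finrank F (X ⊓ fix (y : V ≃ₗ[F] V) : Submodule F V) ≤ 2 := fun X => by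
    rw [← H.fix_two hyo]
    exact Submodule.finrank_mono inf_le_right
  have hdvd : ∀ X : Submodule F V, (∀ g ∈ K, ∀ u ∈ X, g u ∈ X) →
      4 ∣ finrank F X - finrank F (X ⊓ fix (y : V ≃ₗ[F] V) : Submodule F V) := fun X hX =>
    dvd_finrank H.prime H.ndvd H.four (y : V ≃ₗ[F] V) (n := 1) (by rw [pow_one]; exact H.pow_eq hyo) (hX _ y.2)
  -- spaces of dimension at most two
  have small : ∀ X : Submodule F V, (∀ g ∈ K, ∀ u ∈ X, g u ∈ X) → X ≠ ⊥ → finrank F X ≤ 2 →
      ∃ ρ : K →* Matrix.symplecticGroup (Fin 2) F, ¬ r ∣ Nat.card ρ.ker := by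
    intro X hX h0 h2
    have hpos : 1 ≤ finrank F X := by
      rw [Nat.one_le_iff_ne_zero]
      intro h
      exact h0 (Submodule.finrank_eq_zero.1 h)
    refine rho_of H halt hnd hK hX hpos h2 ?_
    rcases Nat.lt_or_ge (finrank F X) 2 with h3 | h3
    · exact (Submodule.finrank_mono inf_le_left).trans (by omega)
    · have h4 := hdvd X hX
      have h5 := hfixle X
      have h6 : X ⊓ fix (y : V ≃ₗ[F] V) = X := Submodule.eq_of_le_of_finrank_le inf_le_left (by omega)
      have h7 : X ⊓ fix (y : V ≃ₗ[F] V) = fix (y : V ≃ₗ[F] V) :=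
        Submodule.eq_of_le_of_finrank_le inf_le_right (by rw [h6, H.fix_two hyo]; exact h3)
      have h8 := hdvd _ (orth_inv hK hX)
      have h9 := hfixle (B.orthogonal X)
      have h10 := LinearMap.BilinForm.finrank_orthogonal hB X
      rw [H.dim] at h10
      have h11 : X ⊓ B.orthogonal X = B.orthogonal X ⊓ fix (y : V ≃ₗ[F] V) := by
        rw [← h7, h6, inf_comm]
      rw [h11]
      omega
  have h4 := hdvd X hX
  have h5 := hfixle X
  rcases Nat.lt_or_ge (finrank F X) 3 with h3 | h3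
  · exact small X hX h0 (by omega)
  · refine small _ (orth_inv hK hX) ?_ ?_
    · intro hbot
      apply h1
      rw [← LinearMap.BilinForm.orthogonal_orthogonal hB hrefl X, hbot]
      rw [eq_top_iff]
      intro v _ w hw
      rw [Submodule.mem_bot] at hw
      rw [hw]
      change B 0 v = 0
      rw [map_zero, LinearMap.zero_apply]
    · rw [LinearMap.BilinForm.finrank_orthogonal hB X, H.dim]
      omega

end cases

end Cfsg.Agent.H544.Rg
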