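import Cfsg.Agent.H544.Rg.Four
import Cfsg.Agent.H763.Wei.RealG2

/-!
# S3691, `Sp_6(q)`, `q` even: an involution of rank three in `G₂(q)` (helper544)
-/

set_option autoImplicit false
set_option linter.unusedSectionVars false

namespace Cfsg.Agent.H544.Rg

open Module Subgroup
open Cfsg Cfsg.Lie Cfsg.Agent.H436

universe u v w

variable {F : Type u} {V : Type v} [Field F] [AddCommGroup V] [Module F V]

/-- an involution `t` inverting an element of order `r`, `r ∣ q² + q + 1`, has rank three. -/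
theorem fix_three [Finite F] [CharP F 2] [Finite V] (hV : finrank F V = 6) {r : ℕ} (hr : r.Prime)
    (hrF : (r : F) ≠ 0) (hrq : ¬ r ∣ Nat.card F) (h3 : ∀ k, r ∣ Nat.card F ^ k - 1 → 3 ∣ k) (hodd : r % 2 = 1)
    {y t : V ≃ₗ[F] V} (hy : orderOf y = r) (ht : t * t = 1) (hty : t * y * t⁻¹ = y⁻¹) : finrank F (fix t) = 3 := by
  have hyr : y ^ r = 1 := by rw [← hy]; exact pow_orderOf_eq_one y
  have hinv : y⁻¹ = y ^ (r - 1) := by
    rw [inv_eq_iff_mul_eq_one, ← pow_succ', Nat.sub_add_cancel hr.one_lt.le, hyr]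
  have htt : ∀ v, t (t v) = v := fun v => LinearEquiv.congr_fun ht v
  have htW : ∀ u ∈ com y, t u ∈ com y := fun u hu => com_inv (n := r - 1) (by rw [hty, hinv]) hu
  have h1 := dvd_finrank hr hrq h3 y (n := 1) (by rw [pow_one]; exact hyr) (U := ⊤) (fun _ _ => trivial)
  rw [finrank_top, top_inf_eq, hV] at h1
  have h2 : finrank F (fix y) ≠ 6 := by
    intro h
    have h3 : fix y = ⊤ := Submodule.eq_top_of_finrank_eq (by rw [h, hV])
    have h4 : y = 1 := by
      ext v
      have h5 : v ∈ fix y := by rw [h3]; trivial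
      exact mem_fix.1 h5
    rw [h4, orderOf_one] at hy
    exact hr.one_lt.ne hy
  have h5 := finrank_com y
  rw [hV] at h5
  have hfree := com_inf_fix hrF hyr
  have h6 := two_mul_fix (y := y) (t := t) (fix_of_sq hodd hyr) hty (W := com y)
      (fun w hw => com_inv (n := 1) (by group) hw) hfree
  have h7 := le_two_mul_fix (t := t) (W := com y) htW (fun w _ => htt w)
  have h8 : finrank F (fix y) = 0 := by omega
  have h9 : com y = ⊤ := Submodule.eq_top_of_finrank_eq (by rw [hV]; omega)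
  rw [h9, top_inf_eq] at h6 h7
  rw [finrank_top, hV] at h6 h7
  omega

/-- an involution of rank three in `G₂(q)` -/
theorem exists_t [Finite F] [CharP F 2] [Finite V] (hV : finrank F V = 6) (hq : 2 ≤ Nat.card F)
    {F' : Type w} [Field F'] [Fintype F'] (hF' : Fintype.card F' = Nat.card F)
    (P : Subgroup (V ≃ₗ[F] V)) (e : P ≃* chevG2.group F') : ∃ t ∈ P, t * t = 1 ∧ finrank F (fix t) = 3 := by
  obtain ⟨r, hr⟩ := exists_prim (q := Nat.card F) (e := 3) hq le_rfl (by omega)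
  obtain ⟨hrm, hr3⟩ := Cfsg.Agent.H763.Wei.prim3 (by omega) hr
  obtain ⟨T, hTc, hTm, hTcent, w, hw⟩ := Cfsg.Agent.H763.Wei.g2_neg_3 hF' (m := Nat.card F ^ 2 + Nat.card F + 1)
    (by push_cast; ring) hr.prime hrm hr3
  have hfin : Finite (V ≃ₗ[F] V) := Finite.of_injective (fun e : V ≃ₗ[F] V => (e : V → V)) DFunLike.coe_injective
  have hfinG : Finite ↥(chevG2.group F') := Finite.of_equiv P e.toEquiv
  have := Fact.mk hr.prime
  have h2F : 2 ∣ Nat.card F := by
    have := Fintype.ofFinite F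
    rw [Nat.card_eq_fintype_card, ← CharP.cast_eq_zero_iff F 2]
    exact Nat.cast_card_eq_zero F
  have hrne : r ≠ 2 := by
    rintro rfl
    exact hr.not_dvd h2F
  have hrF : (r : F) ≠ 0 := by
    intro h
    rw [CharP.cast_eq_zero_iff F 2] at h
    exact hrne ((Nat.prime_dvd_prime_iff_eq Nat.prime_two hr.prime).1 h).symm
  have hmodd : ¬ 2 ∣ Nat.card F ^ 2 + Nat.card F + 1 := by
    have : 2 ∣ Nat.card F ^ 2 + Nat.card F := (h2F.pow two_ne_zero).add h2F
    omega
  obtain ⟨y, hy⟩ := exists_prime_orderOf_dvd_card' (G := T) r (by rw [hTm]; exact hrm)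
  have hyo : orderOf (y : ↥(chevG2.group F')) = r := by rw [Subgroup.orderOf_coe, hy]
  -- the `2`-part of `w`
  obtain ⟨j, m, hm, hjm⟩ := Nat.exists_eq_pow_mul_and_not_dvd (orderOf_pos w).ne' 2 (by norm_num)
  have hwy : w * (y : ↥(chevG2.group F')) * w⁻¹ = (y : ↥(chevG2.group F'))⁻¹ := hw y y.2
  have hodd : ∀ k : ℕ, w ^ (2 * k + 1) * y * (w ^ (2 * k + 1))⁻¹ = (y : ↥(chevG2.group F'))⁻¹ := by
    intro k
    induction k with
    | zero => rw [mul_zero, zero_add, pow_one, hwy]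
    | succ k ih =>
      have h2 : w ^ (2 * (k + 1) + 1) * y * (w ^ (2 * (k + 1) + 1))⁻¹ =
          w * (w * (w ^ (2 * k + 1) * y * (w ^ (2 * k + 1))⁻¹) * w⁻¹) * w⁻¹ := by
        rw [show 2 * (k + 1) + 1 = (2 * k + 1) + 1 + 1 by ring, pow_succ', pow_succ']
        group
      rw [h2, ih]
      have h3 : w * (y : ↥(chevG2.group F'))⁻¹ * w⁻¹ = y := by
        have h4 : w * (y : ↥(chevG2.group F'))⁻¹ * w⁻¹ = (w * y * w⁻¹)⁻¹ := by group
        rw [h4, hwy, inv_inv]
      rw [h3, hwy]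
  obtain ⟨s, hs, hsj⟩ : ∃ s : ↥(chevG2.group F'), s * y * s⁻¹ = (y : ↥(chevG2.group F'))⁻¹ ∧ s ^ 2 ^ j = 1 := by
    refine ⟨w ^ m, ?_, ?_⟩
    · have h4 := hodd (m / 2)
      rwa [show 2 * (m / 2) + 1 = m by omega] at h4
    · rw [← pow_mul, mul_comm m, ← hjm, pow_orderOf_eq_one]
  have hss : s * s = 1 := by
    have h1 : s * s ∈ T := by
      apply hTcent y y.2 hyo
      rw [mem_centralizer_singleton_iff]
      have h2 : s * s * y * (s * s)⁻¹ = y := by
        have h3 : s * s * y * (s * s)⁻¹ = s * (s * y * s⁻¹) * s⁻¹ := by group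
        have h4 : s * (y : ↥(chevG2.group F'))⁻¹ * s⁻¹ = (s * y * s⁻¹)⁻¹ := by group
        rw [h3, hs, h4, hs, inv_inv]
      exact mul_inv_eq_iff_eq_mul.1 h2
    have h2 : orderOf (s * s) ∣ Nat.card F ^ 2 + Nat.card F + 1 := by
      rw [← hTm]
      exact Subgroup.orderOf_dvd_natCard T h1
    have h3 : orderOf (s * s) ∣ 2 ^ j := by
      apply orderOf_dvd_of_pow_eq_one
      rw [← pow_two, ← pow_mul, mul_comm, pow_mul, hsj, one_pow]
    have h4 : orderOf (s * s) ∣ 1 := by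
      rw [← (Nat.Coprime.pow_left j ((Nat.Prime.coprime_iff_not_dvd Nat.prime_two).2 hmodd))]
      exact Nat.dvd_gcd h3 h2
    exact orderOf_eq_one_iff.1 (Nat.dvd_one.1 h4)
  -- back to `P`
  refine ⟨(e.symm s : P), (e.symm s).2, ?_, ?_⟩
  · have h1 : e.symm s * e.symm s = 1 := by rw [← map_mul, hss, map_one]
    exact congrArg Subtype.val h1
  · refine fix_three hV hr.prime hrF hr.not_dvd (fun k hk => (hr.dvd_iff k).1 hk)
      (hr.prime.eq_two_or_odd.resolve_left hrne) (y := (e.symm y : P)) ?_ ?_ ?_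
    · rw [Subgroup.orderOf_coe]
      rw [← hyo]
      exact orderOf_injective e.symm.toMonoidHom e.symm.injective _
    · have h1 : e.symm s * e.symm s = 1 := by rw [← map_mul, hss, map_one]
      exact congrArg Subtype.val h1
    · have h1 : e.symm s * e.symm y * (e.symm s)⁻¹ = (e.symm y)⁻¹ := by
        rw [← map_mul, ← map_inv, ← map_mul, hs, map_inv]
      exact congrArg Subtype.val h1

/-- the numerical hypotheses from a primitive prime -/
theorem Hyp.of_prim {r a : ℕ} (hF : Nat.card F = 2 ^ a) (ha : 0 < a) (h : Prim 2 (4 * a) r) (hV : finrank F V = 6) :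
    Hyp F V r a where
  card := hF
  pos := ha
  prime := h.prime
  ndvd := by
    rw [hF]
    exact h.not_dvd_pow a
  four := fun k hk => by
    rw [hF, ← pow_mul, h.dvd_iff] at hk
    rw [mul_comm 4 a] at hk
    exact Nat.dvd_of_mul_dvd_mul_left ha hk
  ord := by
    have hr2 : 2 ≤ Nat.card F ^ 4 := by
      rw [hF, ← pow_mul]
      calc 2 = 2 ^ 1 := (pow_one 2).symm
        _ ≤ _ := Nat.pow_le_pow_right (by norm_num) (by omega)
    have key : ∀ k, (Nat.card F : ZMod r) ^ k = 1 ↔ 4 ∣ k := by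
      intro k
      have h1 : r ∣ Nat.card F ^ k - 1 ↔ 4 ∣ k := by
        rw [hF, ← pow_mul, h.dvd_iff, mul_comm 4 a]
        exact Nat.mul_dvd_mul_iff_left ha
      rw [← h1, ← ZMod.natCast_eq_zero_iff, Nat.cast_sub (Nat.one_le_pow _ _ (by rw [hF]; positivity)), Nat.cast_pow,
        Nat.cast_one, sub_eq_zero]
    apply Nat.dvd_antisymm
    · exact orderOf_dvd_of_pow_eq_one ((key 4).2 dvd_rfl)
    · exact (key _).1 (pow_orderOf_eq_one _)
  two := fun m hm => (h.dvd_iff m).1 hm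
  dim := hV

/-- two isometries of order two and rank three are conjugate -/
theorem conj_fix [Finite F] [CharP F 2] [FiniteDimensional F V] {B : LinearMap.BilinForm F V} (halt : ∀ x, B x x = 0)
    (hnd : ∀ x, (∀ y, B x y = 0) → x = 0) (hV : finrank F V = 6) {s t : V ≃ₗ[F] V}
    (hs : ∀ x y, B (s x) (s y) = B x y) (ht : ∀ x y, B (t x) (t y) = B x y) (hss : s * s = 1) (htt : t * t = 1)
    (hs3 : finrank F (fix s) = 3) (ht3 : finrank F (fix t) = 3) :
    ∃ g : V ≃ₗ[F] V, (∀ x y, B (g x) (g y) = B x y) ∧ g * s * g⁻¹ = t := by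
  have hsq : ∀ a : F, ∃ b, b * b = a := by
    intro a
    have := Fintype.ofFinite F
    obtain ⟨b, hb⟩ := FiniteField.isSquare_of_char_two (ringChar.eq F 2 |>.symm ▸ rfl) a
    exact ⟨b, hb.symm⟩
  have mk : ∀ s : V ≃ₗ[F] V, (∀ x y, B (s x) (s y) = B x y) → s * s = 1 → finrank F (fix s) = 3 →
      Nil B ((s : V →ₗ[F] V) - LinearMap.id) := by
    intro s hs hss hs3
    have hs2 : ∀ v, s (s v) = v := fun v => LinearEquiv.congr_fun hss v
    refine ⟨halt, hnd, ?_, ?_, ?_, hV⟩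
    · intro x
      change s (s x - x) - (s x - x) = 0
      rw [map_sub, hs2, ← neg_sub (s x) x, ← neg_add', neg_eq_zero]
      exact add_self_V (F := F) _
    · intro x y
      change B (s x - x) y = B x (s y - y)
      rw [map_sub, LinearMap.sub_apply, map_sub]
      congr 1
      have := hs x (s y)
      rwa [hs2] at this
    · have h1 := finrank_com s
      have : finrank F (LinearMap.range ((s : V →ₗ[F] V) - LinearMap.id)) = finrank F (com s) := rfl
      omega
  obtain ⟨g, hg1, hg2⟩ := conj3 hsq (mk s hs hss hs3) (mk t ht htt ht3)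
  refine ⟨g, hg1, ?_⟩
  ext v
  change g (s (g⁻¹ v)) = t v
  have h1 : g (s (g⁻¹ v) - g⁻¹ v) = t (g (g⁻¹ v)) - g (g⁻¹ v) := hg2 (g⁻¹ v)
  have h2 : g (g⁻¹ v) = v := g.apply_symm_apply v
  rw [map_sub, h2] at h1
  exact sub_left_injective h1

end Cfsg.Agent.H544.Rg
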